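import Cfsg.Agent.AGHall.Struct2
import Cfsg.Agent.S0023
import Cfsg.Agent.Lib.ClassSize

/-!
The standing hypotheses are contradictory if the Sylow 2-subgroup is elementary abelian.
-/

set_option autoImplicit false

open Subgroup
open scoped Pointwise

namespace Cfsg.Agent.AGHall.Base

variable {G : Type*} [Group G] [Finite G] (B : Base G)

theorem W_le_C : B.W ≤ B.C := inf_le_left

theorem orderOf_two {t : G} (hsq : ∀ y ∈ B.S, y * y = 1) (ht : t ∈ B.S) (ht1 : t ≠ 1) :
    orderOf t = 2 := orderOf_eq_prime (by rw [sq]; exact hsq t ht) ht1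

theorem inv_eq {t : G} (hsq : ∀ y ∈ B.S, y * y = 1) (ht : t ∈ B.S) : t⁻¹ = t :=
  inv_eq_of_mul_eq_one_right (hsq t ht)

theorem card_nontriv : Nat.card {y : B.S // y ≠ 1} = Nat.card B.S - 1 := by
  classical
  haveI : Fintype B.S := Fintype.ofFinite _
  rw [Nat.card_eq_fintype_card, Nat.card_eq_fintype_card, Fintype.card_subtype_compl,
    Fintype.card_subtype_eq]

/-- The two-point stabilizer attached to `t`. -/
def D (t : G) : Subgroup G := B.C ⊓ B.C.map (MulAut.conj t).toMonoidHom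

theorem mem_D {t c : G} : c ∈ B.D t ↔ c ∈ B.C ∧ t⁻¹ * c * t ∈ B.C := by
  constructor
  · rintro ⟨hc, x, hx, rfl⟩
    refine ⟨hc, ?_⟩
    simpa [mul_assoc] using hx
  · rintro ⟨hc, h⟩
    exact ⟨hc, ⟨t⁻¹ * c * t, h, by simp [mul_assoc]⟩⟩

theorem D_le (t : G) : B.D t ≤ B.C := inf_le_left

/-- `C` is transitive on the cosets `pC`, `p ∈ S`, `p ≠ 1`. -/
theorem relIndex_D (hsq : ∀ y ∈ B.S, y * y = 1) {t : G} (ht : t ∈ B.S) (ht1 : t ≠ 1) :
    (B.D t).relIndex B.C = Nat.card B.S - 1 := by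
  set X := G ⧸ B.C
  have hst : MulAction.stabilizer B.C ((t : G) : X) = (B.D t).subgroupOf B.C := by
    ext c
    rw [MulAction.mem_stabilizer_iff, mem_subgroupOf, B.mem_D]
    change ((((c : G) * t : G)) : X) = ((t : G) : X) ↔ _
    rw [QuotientGroup.eq]
    constructor
    · intro h
      exact ⟨c.2, by simpa [mul_assoc] using B.C.inv_mem h⟩
    · rintro ⟨-, h⟩
      simpa [mul_assoc] using B.C.inv_mem h
  have horb : MulAction.orbit B.C ((t : G) : X) =
      Set.range fun p : {p : B.S // p ≠ 1} => (((p : B.S) : G) : X) := by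
    ext z
    constructor
    · rintro ⟨c, rfl⟩
      obtain ⟨p, hp, c', hc', hpc⟩ := B.exists_mul ((c : G) * t)
      refine ⟨⟨⟨p, hp⟩, fun h => ht1 (B.eq_one ht ?_)⟩, ?_⟩
      · rw [show p = 1 from congrArg Subtype.val h, one_mul] at hpc
        have : t = (c : G)⁻¹ * c' := by rw [← hpc, inv_mul_cancel_left]
        rw [this]
        exact B.C.mul_mem (B.C.inv_mem c.2) hc'
      · change ((p : G) : X) = (((c : G) * t : G) : X)
        rw [QuotientGroup.eq, hpc, inv_mul_cancel_left]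
        exact hc'
    · rintro ⟨⟨⟨p, hp⟩, hp1⟩, rfl⟩
      have hp1' : p ≠ 1 := fun h => hp1 (Subtype.ext h)
      obtain ⟨w, hw, rfl⟩ := B.trans ht hp (B.orderOf_two hsq ht ht1) (B.orderOf_two hsq hp hp1')
      refine ⟨⟨w, hw.1⟩, ?_⟩
      change (((w : G) * t : G) : X) = ((w * t * w⁻¹ : G) : X)
      rw [QuotientGroup.eq]
      simpa [mul_assoc] using B.C.inv_mem hw.1
  have hinj : Function.Injective fun p : {p : B.S // p ≠ 1} => (((p : B.S) : G) : X) := by
    intro p p' h
    refine Subtype.ext (Subtype.ext (inv_mul_eq_one.1 (B.eq_one ?_ (QuotientGroup.eq.1 h))))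
    exact B.S.mul_mem (B.S.inv_mem (p : B.S).2) (p' : B.S).2
  rw [show (B.D t).relIndex B.C = ((B.D t).subgroupOf B.C).index from rfl, ← hst,
    MulAction.index_stabilizer, horb, Set.ncard_range_of_injective hinj, B.card_nontriv]

section Sylow

variable {s : ℕ} [hs : Fact s.Prime]

theorem odd_prime_of_dvd (hdvd : s ∣ Nat.card B.S - 1) : s ≠ 2 := by
  rintro rfl
  haveI : Fact (Nat.Prime 2) := ⟨Nat.prime_two⟩
  obtain ⟨i, hi⟩ := B.two.exists_card_eq
  have hi0 : i ≠ 0 := by
    rintro rfl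
    exact B.ne (card_eq_one.1 (by rw [hi, pow_zero]))
  have : 2 ∣ 2 ^ i := dvd_pow_self 2 hi0
  have hpos : 0 < 2 ^ i := pow_pos (by norm_num) i
  rw [hi] at hdvd
  omega

/-- A Sylow `s`-subgroup inside `C` above a given `s`-subgroup of `C`. -/
theorem exists_sylow_le (hs2 : s ≠ 2) {X : Subgroup G} (hX : IsPGroup s X) (hXC : X ≤ B.C) :
    ∃ R : Sylow s G, X ≤ (R : Subgroup G) ∧ (R : Subgroup G) ≤ B.C := by
  obtain ⟨R₀, hR₀⟩ := (hX.comap_of_injective B.C.subtype B.C.subtype_injective).exists_le_sylow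
  set R := (R₀ : Subgroup B.C).map B.C.subtype with hR
  have hRp : IsPGroup s R := R₀.isPGroup'.map _
  have hidx : ¬ s ∣ R.index := by
    have h : R.index = (R₀ : Subgroup B.C).index * B.C.index := by
      rw [hR, index_map_subtype]
    rw [h, hs.out.dvd_mul, B.index]
    rintro (h' | h')
    · exact R₀.not_dvd_index h'
    · haveI : Fact (Nat.Prime 2) := ⟨Nat.prime_two⟩
      obtain ⟨i, hi⟩ := B.two.exists_card_eq
      rw [hi] at h'
      exact hs2 ((Nat.prime_dvd_prime_iff_eq hs.out Nat.prime_two).1 (hs.out.dvd_of_dvd_pow h'))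
  refine ⟨hRp.toSylow hidx, fun x hx => ?_, map_subtype_le _⟩
  exact ⟨⟨x, hXC hx⟩, hR₀ (show (⟨x, hXC hx⟩ : B.C) ∈ X.comap B.C.subtype from hx), rfl⟩

theorem sylow_not_le_D (hsq : ∀ y ∈ B.S, y * y = 1) (hdvd : s ∣ Nat.card B.S - 1) (R : Sylow s G)
    {t : G} (ht : t ∈ B.S) (ht1 : t ≠ 1) : ¬ (R : Subgroup G) ≤ B.D t := by
  intro h
  refine R.not_dvd_index ((hdvd.trans ?_))
  rw [← B.relIndex_D hsq ht ht1]
  exact (relIndex_dvd_index_of_le (B.D_le t)).trans (index_dvd_of_le h)

theorem normalizer_le (hsq : ∀ y ∈ B.S, y * y = 1) (hdvd : s ∣ Nat.card B.S - 1) (R : Sylow s G)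
    (hR : (R : Subgroup G) ≤ B.C) : normalizer ((R : Subgroup G) : Set G) ≤ B.C := by
  intro n hn
  obtain ⟨p, hp, c, hc, rfl⟩ := B.exists_mul n
  rcases eq_or_ne p 1 with rfl | hp1
  · rwa [one_mul]
  exfalso
  refine B.sylow_not_le_D hsq hdvd (c • R) hp hp1 ?_
  intro x hx
  rw [Sylow.coe_subgroup_smul] at hx
  obtain ⟨r, hr, rfl⟩ := hx
  have e : p⁻¹ = p := B.inv_eq hsq hp
  rw [B.mem_D]
  refine ⟨by simpa using B.C.mul_mem (B.C.mul_mem hc (hR hr)) (B.C.inv_mem hc), ?_⟩
  rw [e]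
  have := hR ((mem_normalizer_iff.1 hn r).1 hr)
  rw [mul_inv_rev, e] at this
  simpa [mul_assoc] using this

theorem eq_one_of_real (hsq : ∀ y ∈ B.S, y * y = 1) (hdvd : s ∣ Nat.card B.S - 1) {u g : G}
    (hu : u ∈ B.C) {k : ℕ} (hk : orderOf u = s ^ k) (hg : g * u * g⁻¹ = u⁻¹) : u = 1 := by
  have hX : IsPGroup s (zpowers u) := IsPGroup.of_card (n := k) (by rw [Nat.card_zpowers, hk])
  obtain ⟨R, huR, hR⟩ := B.exists_sylow_le (B.odd_prime_of_dvd hdvd) hX (zpowers_le.2 hu)
  have hu' : u ∈ (R : Subgroup G) := huR (mem_zpowers u)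
  obtain ⟨n, hn, hnu⟩ := fusion_abelian B.ab R hu' (inv_mem hu') hg
  exact eq_one_of_conj_inv B.codd (B.normalizer_le hsq hdvd R hR hn) hu hnu

/-- Some Sylow `s`-subgroup of `G` lies in `W`. -/
theorem exists_sylow_le_W (hsq : ∀ y ∈ B.S, y * y = 1) (hdvd : s ∣ Nat.card B.S - 1) {t : G}
    (ht : t ∈ B.S) (ht1 : t ≠ 1) : ∃ R : Sylow s G, (R : Subgroup G) ≤ B.W := by
  have hs2 := B.odd_prime_of_dvd hdvd
  set D := B.D t with hD
  have hti : t⁻¹ = t := B.inv_eq hsq ht
  have htt : t * t = 1 := hsq t ht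
  have htD : ∀ c ∈ D, t * c * t⁻¹ ∈ D := by
    intro c hc
    rw [B.mem_D] at hc ⊢
    rw [hti] at hc ⊢
    exact ⟨hc.2, by
      have : t * (t * c * t) * t = c := by
        calc t * (t * c * t) * t = (t * t) * c * (t * t) := by group
          _ = c := by rw [htt, one_mul, mul_one]
      rw [this]; exact hc.1⟩
  have hn : zpowers t ≤ normalizer (D : Set G) := zpowers_le.2 (mem_normalizer_iff.2 fun c =>
    ⟨htD c, fun h => by
      have := htD _ h
      rw [hti] at this
      rwa [show t * (t * c * t) * t = c by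
        calc t * (t * c * t) * t = (t * t) * c * (t * t) := by group
          _ = c := by rw [htt, one_mul, mul_one]] at this⟩)
  have hDodd : Odd (Nat.card D) := B.codd.of_dvd_nat (card_dvd_of_le (B.D_le t))
  obtain ⟨P, hP⟩ := S0023.result (zpowers t) D hn
    (by rw [Nat.card_zpowers, B.orderOf_two hsq ht ht1]; exact hDodd.coprime_two_left)
    (Or.inr (S0205.result hDodd)) s
  set R₁ := (P : Subgroup D).map D.subtype with hR₁
  have hR₁D : R₁ ≤ D := map_subtype_le _
  have hR₁p : IsPGroup s R₁ := P.isPGroup'.map _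
  have hfix : ∀ u ∈ R₁, u * t = t * u := by
    intro u hu
    have htu : t * u * t⁻¹ ∈ R₁ := (mem_normalizer_iff.1 (hP (mem_zpowers t)) u).1 hu
    set v := u⁻¹ * (t * u * t⁻¹) with hv
    have hvR : v ∈ R₁ := R₁.mul_mem (R₁.inv_mem hu) htu
    obtain ⟨k, hk⟩ := IsPGroup.iff_orderOf.1 hR₁p ⟨v, hvR⟩
    rw [Subgroup.orderOf_mk] at hk
    have hv1 : v = 1 := B.eq_one_of_real hsq hdvd ((B.D_le t) (hR₁D hvR)) hk (g := t) (by
      rw [hv, hti]
      calc t * (u⁻¹ * (t * u * t)) * t = t * u⁻¹ * t * u * (t * t) := by group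
        _ = t * u⁻¹ * t⁻¹ * u := by rw [htt, mul_one, hti]
        _ = (u⁻¹ * (t * u * t⁻¹))⁻¹ := by group
        _ = (u⁻¹ * (t * u * t))⁻¹ := by rw [hti])
    rw [hv, inv_mul_eq_one] at hv1
    exact eq_mul_inv_iff_mul_eq.1 hv1
  set Wt := B.W ⊓ centralizer ({t} : Set G) with hWt
  have hR₁W : R₁ ≤ Wt := fun u hu =>
    ⟨⟨B.D_le t (hR₁D hu), B.cent ht ht1 (mem_centralizer_singleton_iff.2 (hfix u hu))⟩,
      mem_centralizer_singleton_iff.2 (hfix u hu)⟩
  obtain ⟨Q, hQ⟩ : ∃ Q : Subgroup G, Q ≤ B.W ∧ IsPGroup s Q ∧ ¬ s ∣ Q.relIndex B.W := by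
    obtain ⟨Q₀⟩ : Nonempty (Sylow s B.W) := inferInstance
    refine ⟨(Q₀ : Subgroup B.W).map B.W.subtype, map_subtype_le _, Q₀.isPGroup'.map _, ?_⟩
    rw [relIndex, subgroupOf, comap_map_eq_self_of_injective B.W.subtype_injective]
    exact Q₀.not_dvd_index
  obtain ⟨hQW, hQp, hQi⟩ := hQ
  refine ⟨hQp.toSylow (fun hdiv => ?_), hQW⟩
  -- compare `s`-parts
  have hCidx : ¬ s ∣ B.C.index := by
    rw [B.index]
    haveI : Fact (Nat.Prime 2) := ⟨Nat.prime_two⟩
    obtain ⟨i, hi⟩ := B.two.exists_card_eq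
    rw [hi]
    exact fun h' => hs2 ((Nat.prime_dvd_prime_iff_eq hs.out Nat.prime_two).1
      (hs.out.dvd_of_dvd_pow h'))
  have hR₁i : ¬ s ∣ R₁.relIndex D := by
    rw [hR₁, relIndex, subgroupOf, comap_map_eq_self_of_injective D.subtype_injective]
    exact P.not_dvd_index
  have hWti : Wt.relIndex B.W = Nat.card B.S - 1 := by
    have hst : (centralizer ({t} : Set G)).relIndex B.W = Nat.card B.S - 1 := by
      rw [← B.card_nontriv]
      set f : B.W → {y : B.S // y ≠ 1} := fun w => ⟨⟨(w : G) * t * (w : G)⁻¹, B.conj_mem w.2 ht⟩,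
        fun h => ht1 (conj_eq_one_iff.1 (congrArg Subtype.val h))⟩ with hf
      refine Nat.card_congr (Equiv.ofBijective (Quotient.lift f ?_) ⟨?_, ?_⟩)
      · intro a b hab
        replace hab := QuotientGroup.leftRel_apply.1 hab
        rw [mem_subgroupOf, mem_centralizer_singleton_iff] at hab
        apply Subtype.ext; apply Subtype.ext
        show (a : G) * t * (a : G)⁻¹ = (b : G) * t * (b : G)⁻¹
        have hab' : ((a : G)⁻¹ * b) * t = t * ((a : G)⁻¹ * b) := hab
        calc (a : G) * t * (a : G)⁻¹ = a * (t * ((a : G)⁻¹ * b)) * (b : G)⁻¹ := by group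
          _ = (a : G) * (((a : G)⁻¹ * b) * t) * (b : G)⁻¹ := by rw [hab']
          _ = _ := by group
      · intro a b
        refine Quotient.inductionOn₂ a b fun a b h => Quotient.sound ?_
        show QuotientGroup.leftRel _ a b
        rw [QuotientGroup.leftRel_apply, mem_subgroupOf, mem_centralizer_singleton_iff]
        have h' : (a : G) * t * (a : G)⁻¹ = (b : G) * t * (b : G)⁻¹ :=
          congrArg (fun y : {y : B.S // y ≠ 1} => ((y : B.S) : G)) h
        show (a : G)⁻¹ * b * t = t * ((a : G)⁻¹ * b)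
        calc (a : G)⁻¹ * b * t = (a : G)⁻¹ * ((b : G) * t * (b : G)⁻¹) * b := by group
          _ = (a : G)⁻¹ * ((a : G) * t * (a : G)⁻¹) * b := by rw [h']
          _ = _ := by group
      · rintro ⟨⟨p, hp⟩, hp1⟩
        obtain ⟨w, hw, hwp⟩ := B.trans ht hp (B.orderOf_two hsq ht ht1)
          (B.orderOf_two hsq hp fun h => hp1 (Subtype.ext h))
        exact ⟨Quotient.mk'' ⟨w, hw⟩, Subtype.ext (Subtype.ext hwp)⟩
    rw [hWt, inf_relIndex_left, hst]
  have hle : B.W ≤ B.C := inf_le_left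
  -- `|C| = |D|(q-1)`, `|W| = |Wt|(q-1)`, and `|R₁| ∣ |Wt|`
  have hv : ∀ (H K : Subgroup G), H ≤ K → (Nat.card K).factorization s =
      (H.relIndex K).factorization s + (Nat.card H).factorization s := by
    intro H K hHK
    rw [← card_mul_index (H.subgroupOf K), Nat.card_congr (subgroupOfEquivOfLe hHK).toEquiv,
      Nat.factorization_mul Nat.card_pos.ne' index_ne_zero_of_finite, Finsupp.add_apply, add_comm]
    rfl
  have hz : ∀ {m : ℕ}, ¬ s ∣ m → m.factorization s = 0 := fun h =>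
    Nat.factorization_eq_zero_of_not_dvd h
  have hmono : (Nat.card R₁).factorization s ≤ (Nat.card Wt).factorization s := by
    rw [hv R₁ Wt hR₁W]; omega
  have a1 := hv D B.C (B.D_le t)
  have a2 := hv R₁ D hR₁D
  have a3 := hv Wt B.W inf_le_left
  have a4 := hv Q B.W hQW
  have a5 := hv B.W B.C hle
  have a6 : (Nat.card G).factorization s = (B.C.index).factorization s + (Nat.card B.C).factorization s := by
    rw [← card_mul_index B.C, Nat.factorization_mul Nat.card_pos.ne' index_ne_zero_of_finite,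
      Finsupp.add_apply, add_comm]
  have a7 : (Nat.card G).factorization s = (Q.index).factorization s + (Nat.card Q).factorization s := by
    rw [← card_mul_index Q, Nat.factorization_mul Nat.card_pos.ne' index_ne_zero_of_finite,
      Finsupp.add_apply, add_comm]
  rw [show D.relIndex B.C = Nat.card B.S - 1 from B.relIndex_D hsq ht ht1] at a1
  rw [hWti] at a3
  rw [hz hR₁i] at a2
  rw [hz hQi] at a4
  rw [hz hCidx] at a6
  have : 1 ≤ (Q.index).factorization s :=
    hs.out.factorization_pos_of_dvd index_ne_zero_of_finite hdiv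
  omega

end Sylow

theorem elementary_false (hsq : ∀ y ∈ B.S, y * y = 1) : False := by
  classical
  haveI : Group.IsSolvable B.C := S0205.result B.codd
  obtain ⟨⟨t, ht⟩, ht'⟩ := Subgroup.ne_bot_iff_exists_ne_one.1 B.ne
  have ht1 : t ≠ 1 := fun e => ht' (Subtype.ext e)
  set F := Cfsg.fittingSubgroup B.C with hF
  set A := F.map B.C.subtype with hA
  have hAC : A ≤ B.C := map_subtype_le F
  have hAn : B.C ≤ normalizer (A : Set G) := fun c hc => by
    refine le_normalizer_map B.C.subtype ⟨⟨c, hc⟩, ?_, rfl⟩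
    rw [normalizer_eq_top]
    exact mem_top _
  have hAW : A ≤ B.W := by
    rw [hA, hF, Cores.fittingSubgroup_eq_iSup_pCore, Subgroup.map_iSup]
    refine iSup_le fun r => ?_
    haveI := Fact.mk r.2
    set X := (Cfsg.pCore (r : ℕ) B.C).map B.C.subtype with hX
    have hXp : IsPGroup (r : ℕ) X := (Cores.pCore_isPGroup).map _
    have hXn : B.C ≤ normalizer (X : Set G) := fun c hc => by
      refine le_normalizer_map B.C.subtype ⟨⟨c, hc⟩, ?_, rfl⟩
      rw [normalizer_eq_top]
      exact mem_top _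
    by_cases hdvd : (r : ℕ) ∣ Nat.card B.S - 1
    · obtain ⟨R, hR⟩ := B.exists_sylow_le_W hsq hdvd ht ht1
      refine le_trans ?_ hR
      intro x hx
      obtain ⟨x', hx', rfl⟩ := hx
      have := Cores.pCore_le_sylow (R.subtype (hR.trans B.W_le_C)) hx'
      exact this
    · have hbot : X = ⊥ := by
        have hD : ∀ u ∈ B.S, u ≠ 1 → X ≤ B.D u := by
          intro u hu hu1
          have hXC : X ≤ B.C := map_subtype_le _
          rw [← relIndex_eq_one]
          have h1 : (B.D u).relIndex X ∣ Nat.card B.S - 1 := by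
            rw [← B.relIndex_D hsq hu hu1]
            have hh : ((B.D u).subgroupOf B.C).relIndex (Cfsg.pCore (r : ℕ) B.C) ∣
                ((B.D u).subgroupOf B.C).index :=
              ClassSize.relIndex_dvd_index_of_normal_left _ _
            have e : ((B.D u).subgroupOf B.C).relIndex (Cfsg.pCore (r : ℕ) B.C) =
                (B.D u).relIndex X := by
              rw [subgroupOf, relIndex_comap, hX]
            rwa [e] at hh
          obtain ⟨i, hi⟩ := (hXp.exists_card_eq)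
          have h2 : (B.D u).relIndex X ∣ (r : ℕ) ^ i := hi ▸ relIndex_dvd_card _ _
          exact Nat.eq_one_of_dvd_coprimes ((r.2.coprime_iff_not_dvd.2 hdvd).pow_left i) h2 h1
        rw [eq_bot_iff, ← B.core]
        intro x hx g
        obtain ⟨p, hp, c, hc, hpc⟩ := B.exists_mul g⁻¹
        have hg : g = c⁻¹ * p⁻¹ := by rw [← inv_inv g, hpc]; group
        have h1 : p⁻¹ * x * p ∈ B.C := by
          rcases eq_or_ne p 1 with rfl | hp1
          · simpa using map_subtype_le _ hx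
          · exact ((B.mem_D).1 (hD p hp hp1 hx)).2
        rw [hg]
        have := B.C.mul_mem (B.C.mul_mem (B.C.inv_mem hc) h1) hc
        simpa [mul_assoc] using this
      exact hbot.le.trans bot_le
  haveI : Group.IsNilpotent F := Cores.fittingSubgroup_isNilpotent
  have hFc : ∀ a b : F, a * b = b * a := ((B.ab.subgroup B.C).subgroup F).comm_of_nilpotent
  have hAc : ∀ a ∈ A, ∀ b ∈ A, a * b = b * a := by
    rintro _ ⟨a, ha, rfl⟩ _ ⟨b, hb, rfl⟩
    exact congrArg (fun z : F => ((z : B.C) : G)) (hFc ⟨a, ha⟩ ⟨b, hb⟩)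
  have hAWn : B.W ≤ normalizer (A : Set G) := B.W_le_C.trans hAn
  have hsr : ∀ a ∈ A, ∀ v ∈ B.S, a * v = v * a → a = 1 ∨ v = 1 := fun a ha v hv h =>
    B.semiregular hAW hAWn hAc ha hv h
  haveI : IsMulCommutative A := ⟨⟨fun a b => Subtype.ext (hAc a a.2 b b.2)⟩⟩
  have hcyc : IsCyclic A := by
    by_contra hnc
    have := S0058.result A B.S hnc (hAW.trans inf_le_right)
      (B.coprime.coprime_dvd_right (card_dvd_of_le hAC)).symm
    refine B.ne (this.symm.trans (eq_bot_iff.2 (iSup₂_le fun a ha v hv => ?_)))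
    rcases hsr a ha.1 v hv.1 (mem_centralizer_singleton_iff.1 hv.2).symm with h | h
    · exact absurd h ha.2
    · exact mem_bot.2 h
  have hAq : Nat.card A ≤ Nat.card B.S - 1 := by
    rw [← B.card_nontriv]
    refine Nat.card_le_card_of_injective (fun a => ⟨⟨(a : G) * t * (a : G)⁻¹,
      B.conj_mem (hAW a.2) ht⟩, fun h => ht1 (conj_eq_one_iff.1 (congrArg Subtype.val h))⟩) ?_
    intro a b h
    have h' : (a : G) * t * (a : G)⁻¹ = (b : G) * t * (b : G)⁻¹ :=
      congrArg (fun y : {y : B.S // y ≠ 1} => ((y : B.S) : G)) h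
    have hc : (b : G)⁻¹ * a * t = t * ((b : G)⁻¹ * a) := by
      calc (b : G)⁻¹ * a * t = (b : G)⁻¹ * ((a : G) * t * (a : G)⁻¹) * a := by group
        _ = (b : G)⁻¹ * ((b : G) * t * (b : G)⁻¹) * a := by rw [h']
        _ = _ := by group
    rcases hsr _ (A.mul_mem (A.inv_mem b.2) a.2) t ht hc with h1 | h1
    · exact Subtype.ext (inv_mul_eq_one.1 h1).symm
    · exact absurd h1 ht1
  haveI : IsCyclic F := isCyclic_of_surjective _
    (equivMapOfInjective F B.C.subtype B.C.subtype_injective).symm.surjective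
  have hCcard : Nat.card B.C ≤ Nat.card F * Nat.card F := by
    let φ : B.C →* MulAut F := MulAut.conjNormal
    have hker : φ.ker ≤ F := by
      refine le_trans ?_ Cores.centralizer_fittingSubgroup_le
      intro g hg
      rw [mem_centralizer_iff]
      intro x hx
      have h : ((φ g ⟨x, hx⟩ : F) : B.C) = x := by rw [MonoidHom.mem_ker.1 hg]; rfl
      rw [MulAut.conjNormal_apply] at h
      exact (mul_inv_eq_iff_eq_mul.1 h).symm
    have hrange : Nat.card φ.range ≤ Nat.card F := by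
      obtain ⟨a₀, ha₀⟩ := IsCyclic.exists_generator (α := F)
      refine Nat.card_le_card_of_injective (fun f => (f : MulAut F) a₀) fun f f' h => ?_
      refine Subtype.ext (MulEquiv.ext fun x => ?_)
      obtain ⟨i, rfl⟩ := mem_zpowers_iff.1 (ha₀ x)
      simp only at h
      rw [map_zpow, map_zpow, h]
    rw [← card_mul_index φ.ker, index_ker]
    exact Nat.mul_le_mul (card_le_of_le hker) hrange
  rw [← card_map_of_injective B.C.subtype_injective, ← hA] at hCcard
  -- the lower bound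
  set M := normalizer (B.S : Set G)
  have hM : Nat.card B.S * Nat.card B.W ≤ Nat.card M := by
    rw [← Nat.card_prod]
    refine Nat.card_le_card_of_injective (fun x => ⟨(x.1 : G) * x.2,
      M.mul_mem (Subgroup.le_normalizer x.1.2) x.2.2.2⟩) fun x y h => ?_
    have h' : (x.1 : G) * x.2 = y.1 * y.2 := congrArg Subtype.val h
    have h1 : (y.1 : G)⁻¹ * x.1 = (y.2 : G) * (x.2 : G)⁻¹ := by
      calc (y.1 : G)⁻¹ * x.1 = (y.1 : G)⁻¹ * ((x.1 : G) * x.2) * (x.2 : G)⁻¹ := by group
        _ = (y.1 : G)⁻¹ * ((y.1 : G) * y.2) * (x.2 : G)⁻¹ := by rw [h']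
        _ = _ := by group
    have hone := B.eq_one (B.S.mul_mem (B.S.inv_mem y.1.2) x.1.2)
      (h1 ▸ B.C.mul_mem y.2.2.1 (B.C.inv_mem x.2.2.1))
    have e1 : (y.1 : G) = x.1 := inv_mul_eq_one.1 hone
    rw [hone] at h1
    exact Prod.ext (Subtype.ext e1.symm) (Subtype.ext (mul_inv_eq_one.1 h1.symm).symm)
  have hW : Nat.card B.S - 1 ≤ Nat.card B.W := by
    rw [← B.card_nontriv]
    have hsurj : Function.Surjective (fun w : B.W => (⟨⟨(w : G) * t * (w : G)⁻¹,
        B.conj_mem w.2 ht⟩, fun h => ht1 (conj_eq_one_iff.1 (congrArg Subtype.val h))⟩ :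
        {y : B.S // y ≠ 1})) := by
      rintro ⟨⟨p, hp⟩, hp1⟩
      obtain ⟨w, hw, hwp⟩ := B.trans ht hp (B.orderOf_two hsq ht ht1)
        (B.orderOf_two hsq hp fun h => hp1 (Subtype.ext h))
      exact ⟨⟨w, hw⟩, Subtype.ext (Subtype.ext hwp)⟩
    exact Nat.card_le_card_of_surjective _ hsurj
  have hn : Nat.card B.S + 1 ≤ M.index := by
    have h1 := B.index_modEq
    have h2 := B.index_normalizer_ne_one
    have h0 : M.index ≠ 0 := index_ne_zero_of_finite
    have := (Nat.modEq_iff_dvd' (by omega : 1 ≤ M.index)).1 h1.symm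
    have h3 : M.index ≠ 1 := h2
    have := Nat.le_of_dvd (by omega) this
    omega
  have hG : M.index * Nat.card M = Nat.card B.S * Nat.card B.C := by
    rw [index_mul_card, ← B.index, index_mul_card]
  set q := Nat.card B.S
  have hq : 2 ≤ q := by
    rcases Nat.lt_or_ge q 2 with h | h
    · have h0 : 0 < q := Nat.card_pos
      exact absurd (card_eq_one.1 (by omega : q = 1)) B.ne
    · exact h
  have h3 : (q + 1) * (q * (q - 1)) ≤ q * ((q - 1) * (q - 1)) := by
    calc (q + 1) * (q * (q - 1)) ≤ M.index * Nat.card M :=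
          Nat.mul_le_mul hn ((Nat.mul_le_mul_left q hW).trans hM)
      _ = q * Nat.card B.C := hG
      _ ≤ q * ((q - 1) * (q - 1)) := Nat.mul_le_mul_left q (hCcard.trans (Nat.mul_le_mul hAq hAq))
  obtain ⟨m, hm⟩ : ∃ m, q = m + 2 := ⟨q - 2, by omega⟩
  rw [hm, show m + 2 - 1 = m + 1 from rfl] at h3
  nlinarith

end Cfsg.Agent.AGHall.Base
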