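import Cfsg.Agent.AGHall.TICoh
import Cfsg.Agent.Char.Kernel
import Cfsg.Agent.Char.Integrality
import Cfsg.Agent.S0840

/-!
The strongly embedded configuration is impossible.
-/

set_option autoImplicit false

open Subgroup
open scoped ComplexConjugate

namespace Cfsg.Agent.AGHall.Cfg

variable {G : Type*} [Group G] [Finite G] {T : TI G} (K : Cfg T)

theorem t_mem_inv : ((K.t : ↥T.M) : G) ∈ T.Inv := ⟨K.t.2, orderOf_val K.ht⟩

theorem card_inv : Nat.card T.Inv = Nat.card (I (T := T)) := by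
  refine Nat.card_congr
    { toFun := fun u => ⟨⟨⟨(u : G), T.S_le_M u.2.1⟩, u.2.1⟩, ?_⟩
      invFun := fun u => ⟨(((u : T.sp.S) : ↥T.M) : G), u.1.2, orderOf_val u.2⟩
      left_inv := fun u => rfl
      right_inv := fun u => rfl }
  rw [← Subgroup.orderOf_coe, ← Subgroup.orderOf_coe]
  exact u.2.2

theorem commute_iff_wP (x : ↥T.M) :
    x * (K.t : ↥T.M) = K.t * x ↔ ((T.sp.wP x : ↥T.M)) ∈ K.V := by
  have hx := T.sp.parts x
  have hs : ((T.sp.sP x : ↥T.M)) * (K.t : ↥T.M) = K.t * (T.sp.sP x : ↥T.M) :=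
    T.sp.comm _ (T.sp.sP x).2 _ K.t.2
  constructor
  · intro h
    refine ⟨(T.sp.wP x).2, mem_centralizer_singleton_iff.2 ?_⟩
    rw [hx] at h
    refine mul_left_cancel (a := (T.sp.sP x : ↥T.M)) ?_
    rw [← mul_assoc, h, ← mul_assoc, ← mul_assoc, hs]
  · intro h
    have hw := mem_centralizer_singleton_iff.1 h.2
    rw [hx, mul_assoc, hw, ← mul_assoc, hs, mul_assoc]

theorem card_cent : Nat.card (centralizer ({((K.t : ↥T.M) : G)} : Set G)) =
    Nat.card T.S * Nat.card K.V := by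
  rw [← T.card_spS, ← Nat.card_prod]
  have ht1 : ((K.t : ↥T.M) : G) ≠ 1 := fun e => by
    have := orderOf_val K.ht
    rw [e, orderOf_one] at this
    omega
  have hM : ∀ x ∈ centralizer ({((K.t : ↥T.M) : G)} : Set G), x ∈ T.M := fun x hx =>
    T.centralizer_mem_M K.t.2 ht1 (mem_centralizer_singleton_iff.1 hx)
  refine Nat.card_congr
    { toFun := fun x => (T.sp.sP ⟨x, hM x x.2⟩, ⟨(T.sp.wP ⟨x, hM x x.2⟩ : ↥T.M),
        (K.commute_iff_wP _).1 (Subtype.ext (mem_centralizer_singleton_iff.1 x.2))⟩)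
      invFun := fun p => ⟨(((p.1 : ↥T.M) * (p.2 : ↥T.M) : ↥T.M) : G), ?_⟩
      left_inv := fun x => ?_
      right_inv := fun p => ?_ }
  · refine mem_centralizer_singleton_iff.2
      (congrArg Subtype.val ((K.commute_iff_wP ((p.1 : ↥T.M) * (p.2 : ↥T.M))).2 ?_))
    rw [(T.sp.parts_unique p.1 ⟨p.2, K.V_le_W p.2.2⟩ rfl).2]
    exact p.2.2
  · exact Subtype.ext (congrArg Subtype.val (T.sp.parts ⟨x, hM x x.2⟩).symm :)
  · obtain ⟨h1, h2⟩ := T.sp.parts_unique (x := (p.1 : ↥T.M) * (p.2 : ↥T.M)) p.1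
      ⟨p.2, K.V_le_W p.2.2⟩ rfl
    exact Prod.ext h1 (Subtype.ext (congrArg (fun z : T.sp.W => (z : ↥T.M)) h2))

theorem card_M_eq : Nat.card T.M = Nat.card T.S * (Nat.card K.V * Nat.card (I (T := T))) := by
  rw [T.card_M, ← T.card_spW, K.card_V_mul]

include K in
/-- The order of `S` factors through squaring. -/
theorem exists_r : ∃ r : ℕ, Nat.card T.S = r * (Nat.card (I (T := T)) + 1) ∧
    Nat.card (I (T := T)) + 1 ≤ r := by
  classical
  letI : CommGroup T.sp.S :=
    { (inferInstance : Group T.sp.S) with mul_comm := T.sp.S_comm }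
  set f : T.sp.S →* T.sp.S := powMonoidHom 2 with hf
  have hker : Nat.card f.ker = Nat.card (I (T := T)) + 1 := by
    rw [← Finite.card_option]
    refine Nat.card_congr
      { toFun := fun s => if h : (s : T.sp.S) = 1 then none else
          some ⟨s, orderOf_eq_prime (by simpa [hf] using (MonoidHom.mem_ker.1 s.2)) h⟩
        invFun := fun o => o.elim 1 fun u => ⟨u.1, by
          rw [MonoidHom.mem_ker, hf, powMonoidHom_apply, sq, sq_of_I u]⟩
        left_inv := fun s => ?_
        right_inv := fun o => ?_ }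
    · by_cases h : (s : T.sp.S) = 1
      · simp only [dif_pos h]; exact Subtype.ext h.symm
      · simp only [dif_neg h]; rfl
    · cases o with
      | none => simp
      | some u =>
        have : (u : T.sp.S) ≠ 1 := fun e => by
          have := u.2
          rw [e, orderOf_one] at this
          omega
        simp [this]
  refine ⟨Nat.card f.range, ?_, ?_⟩
  · rw [← T.card_spS, ← hker, ← Subgroup.index_ker f, Subgroup.index_mul_card]
  · rw [← hker]
    refine Subgroup.card_le_of_le fun s hs => ?_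
    by_cases h : s = 1
    · exact h ▸ one_mem _
    · obtain ⟨y, hy⟩ := K.hexp s (orderOf_eq_prime (by simpa [hf] using (MonoidHom.mem_ker.1 hs)) h)
      exact ⟨y, by simpa [hf, sq] using hy⟩

section

variable [Fintype G] [Fintype ↥T.M]

theorem ex_inj_aux (eta : K.V →* ℂˣ) {i j : Fin 3} (h : i ≠ j) :
    (K.ex eta i : G → ℂ) ≠ (K.ex eta j : G → ℂ) :=
  fun e => h (K.ex_inj_one eta (Subtype.ext e))

theorem beta_t (eta : K.V →* ℂˣ) {j : Fin 3} (hj : j ≠ 0) :
    K.beta eta j (K.t : ↥T.M) = (Nat.card (I (T := T)) : ℂ) + 1 := by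
  classical
  letI : Fintype (I (T := T)) := Fintype.ofFinite _
  rw [beta, Pi.sub_apply, K.zeta_t_zero, K.zeta_t_full hj, sub_neg_eq_add]

theorem two_dvd_t : 2 ∣ orderOf (K.t : ↥T.M) := by
  rw [Subgroup.orderOf_coe, K.ht]

theorem ex_t_sub (eta : K.V →* ℂˣ) {j : Fin 3} (hj : j ≠ 0) :
    (K.eps eta : ℂ) * ((K.ex eta 0 : G → ℂ) ((K.t : ↥T.M) : G) -
      (K.ex eta j : G → ℂ) ((K.t : ↥T.M) : G)) = (Nat.card (I (T := T)) : ℂ) + 1 := by
  rw [← K.beta_t eta hj, ← T.tau_apply (K.beta_class eta j) (K.beta_supp eta j) _ K.two_dvd_t,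
    K.tau_beta eta hj]
  rfl

/-- The value at `t` differs from the degree by a multiple of `|S|`. -/
theorem ex_t (eta : K.V →* ℂˣ) : ∃ k : ℤ, (K.ex eta 0 : G → ℂ) ((K.t : ↥T.M) : G) =
    (K.ex eta 0 : G → ℂ) 1 - (Nat.card T.S : ℂ) * k := by
  classical
  letI : Fintype T.sp.S := Fintype.ofFinite _
  haveI := finite_homs (X := T.sp.S)
  letI : Fintype (T.sp.S →* ℂˣ) := Fintype.ofFinite _
  set θ : G → ℂ := (K.ex eta 0 : G → ℂ) with hθ
  have hchar : Cfsg.IsCharacter T.sp.S (fun s : T.sp.S => θ ((s : ↥T.M) : G)) :=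
    Char.isCharacter_comp (Char.isCharacter_of_irr (K.ex eta 0).2)
      (T.M.subtype.comp T.sp.S.subtype)
  obtain ⟨k, hk⟩ := Char.isCharacter_classInner_nat hchar
    ⟨_, CharInd.irr_of_linHom (K.lam 1)⟩
  refine ⟨k, ?_⟩
  have hexpand : ∀ s : T.sp.S, θ ((s : ↥T.M) : G) =
      ∑ l : T.sp.S →* ℂˣ, mult (T := T) θ l * (l s : ℂ) := by
    intro s
    have hin : ∀ x : T.sp.S, ∑ l : T.sp.S →* ℂˣ, conj ((l x : ℂ)) * (l s : ℂ) =
        if x = s then (Nat.card T.sp.S : ℂ) else 0 := by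
      intro x
      have : ∀ l : T.sp.S →* ℂˣ, conj ((l x : ℂ)) * (l s : ℂ) = ((l (x⁻¹ * s) : ℂˣ) : ℂ) :=
        fun l => by rw [conj_hom_apply, map_mul, Units.val_mul]
      simp only [this, sum_homs_apply T.sp.S_comm, inv_mul_eq_one]
    simp only [mult, Cfsg.classInner, mul_assoc, Finset.sum_mul, Finset.mul_sum]
    rw [Finset.sum_comm]
    simp only [← Finset.mul_sum, hin, mul_ite, mul_zero]
    rw [Finset.sum_ite_eq', if_pos (Finset.mem_univ _)]
    have : (Nat.card T.sp.S : ℂ) ≠ 0 := Nat.cast_ne_zero.2 Nat.card_pos.ne'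
    field_simp
  have h1 := hexpand 1
  simp only [Subgroup.coe_one, map_one, Units.val_one, mul_one] at h1
  have hfull : ∀ l : T.sp.S →* ℂˣ, mult (T := T) θ l * (1 - (l K.t : ℂ)) =
      (k : ℂ) * (1 - (l K.t : ℂ)) := by
    intro l
    by_cases hl : l K.t = 1
    · rw [hl, Units.val_one, sub_self, mul_zero, mul_zero]
    · congr 1
      rw [K.mult_eq eta ⟨K.t, K.ht, hl⟩, ← K.mult_eq eta K.lam1_full]
      exact hk
  have hsum : θ 1 - θ ((K.t : ↥T.M) : G) = (k : ℂ) * (Nat.card T.S : ℂ) := by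
    rw [h1, hexpand K.t, ← Finset.sum_sub_distrib,
      Finset.sum_congr rfl (g := fun l : T.sp.S →* ℂˣ => (k : ℂ) * (1 - (l K.t : ℂ)))
        fun l _ => by rw [← hfull l]; ring,
      ← Finset.mul_sum, Finset.sum_sub_distrib, sum_homs_apply T.sp.S_comm,
      if_neg fun e => by
        have := K.ht
        rw [e, orderOf_one] at this
        omega]
    rw [Finset.sum_const, Finset.card_univ, ← Nat.card_eq_fintype_card, card_homs T.sp.S_comm,
      T.card_spS, nsmul_eq_mul, mul_one, sub_zero]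
  push_cast
  linear_combination -hsum

/-- The class multiplication relation. -/
theorem key_eq (eta : K.V →* ℂˣ) :
    (T.M.index : ℂ) * (Nat.card (I (T := T)) : ℂ) *
        ((K.ex eta 0 : G → ℂ) ((K.t : ↥T.M) : G) + (K.ex eta 1 : G → ℂ) ((K.t : ↥T.M) : G)) =
      (K.ex eta 0 : G → ℂ) 1 * ((Nat.card (I (T := T)) : ℂ) - 1) := by
  classical
  set t : G := ((K.t : ↥T.M) : G) with ht
  set i0 := Nat.card (I (T := T)) with hi0
  set β := K.beta eta 1 with hβ
  set N : G → ℂ := fun x =>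
    (Nat.card {p : G × G // IsConj t p.1 ∧ IsConj t p.2 ∧ p.1 * p.2 = x} : ℂ) with hN
  set cl : ℂ := (Nat.card {x : G // IsConj t x} : ℂ) with hcl
  -- direct evaluation
  have hL : ∑ x : ↥T.M, β x * N x = (i0 : ℂ) * ((i0 : ℂ) + 1) * ((i0 : ℂ) - 1) := by
    have hz : ∀ x : ↥T.M, (x : G) ∉ T.Inv → β x * N x = 0 := by
      intro x hx
      by_cases h2 : 2 ∣ orderOf x
      · have : IsEmpty {p : G × G // IsConj t p.1 ∧ IsConj t p.2 ∧ p.1 * p.2 = (x : G)} := by
          refine ⟨fun p => hx ?_⟩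
          obtain ⟨h1, h1', h1''⟩ := p.2
          have := T.product_involutions ⟨x.2, by rwa [Subgroup.orderOf_coe]⟩
            ((TI.orderOf_of_isConj h1).trans (orderOf_val K.ht))
            ((TI.orderOf_of_isConj h1').trans (orderOf_val K.ht)) h1''
          exact ⟨this.1, this.2.1⟩
        simp only [hN, Nat.card_of_isEmpty, Nat.cast_zero, mul_zero]
      · rw [hβ, K.beta_supp eta 1 x h2, zero_mul]
    have hone : ∀ x : ↥T.M, (x : G) ∈ T.Inv →
        β x * N x = ((i0 : ℂ) + 1) * ((i0 : ℂ) - 1) := by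
      intro x hx
      have hc : IsConj (K.t : ↥T.M) x := by
        obtain ⟨w, hw, hwt⟩ := T.trans _ K.t.2 _ hx.1 (orderOf_val K.ht) hx.2
        exact isConj_iff.2 ⟨⟨w, T.W_le_M hw⟩, Subtype.ext hwt⟩
      have hp := T.card_pairs K.t_mem_inv hx
      rw [card_inv, ← hi0] at hp
      have hp' : N x + 1 = (i0 : ℂ) := by
        simp only [hN]; exact_mod_cast hp
      rw [← hp', hβ, ← Char.isClassFunction_eq_of_isConj (K.beta_class eta 1) hc,
        K.beta_t eta (by decide), ← hi0, ← hp']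
      ring
    rw [← Finset.sum_filter_of_ne (p := fun x : ↥T.M => (x : G) ∈ T.Inv)
      (fun x _ hne => by_contra fun h => hne (hz x h)),
      Finset.sum_congr rfl fun x hx => hone x (Finset.mem_filter.1 hx).2, Finset.sum_const,
      nsmul_eq_mul, mul_assoc]
    congr 2
    rw [← Fintype.card_subtype, ← Nat.card_eq_fintype_card, hi0, ← card_inv]
    exact Nat.card_congr
      { toFun := fun x => ⟨((x : ↥T.M) : G), x.2⟩
        invFun := fun u => ⟨⟨(u : G), T.S_le_M u.2.1⟩, u.2⟩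
        left_inv := fun x => rfl
        right_inv := fun u => rfl }
  -- evaluation by characters
  have hR : (Nat.card T.M : ℂ)⁻¹ * ∑ x : ↥T.M, β x * N x =
      cl * cl / (Nat.card G : ℂ) * ∑ χ : Cfsg.IrrCharacter G,
        (χ : G → ℂ) t * (χ : G → ℂ) t / (χ : G → ℂ) 1 *
          Cfsg.classInner (T.tau β) (χ : G → ℂ) := by
    have hfr : ∀ χ : Cfsg.IrrCharacter G, Cfsg.classInner (T.tau β) (χ : G → ℂ) =
        Cfsg.classInner β (fun x : ↥T.M => (χ : G → ℂ) x) := fun χ =>
      CharInd.classInner_indFun_left T.M β (Char.irr_isClassFunction χ.2)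
    simp only [hfr]
    simp only [hN, S0840.result, finsum_eq_sum_of_fintype, ← hcl, Cfsg.classInner,
      Finset.mul_sum]
    rw [Finset.sum_comm]
    refine Finset.sum_congr rfl fun χ _ => Finset.sum_congr rfl fun x _ => ?_
    ring
  have hsumχ : ∑ χ : Cfsg.IrrCharacter G, (χ : G → ℂ) t * (χ : G → ℂ) t / (χ : G → ℂ) 1 *
      Cfsg.classInner (T.tau β) (χ : G → ℂ) =
      (K.eps eta : ℂ) * ((K.ex eta 0 : G → ℂ) t * (K.ex eta 0 : G → ℂ) t -
        (K.ex eta 1 : G → ℂ) t * (K.ex eta 1 : G → ℂ) t) / (K.ex eta 0 : G → ℂ) 1 := by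
    simp only [hβ, K.tau_beta eta (show (1 : Fin 3) ≠ 0 by decide), Char.classInner_smul_left,
      Char.classInner_sub_left, Char.classInner_irrCharacter]
    simp only [mul_sub, Finset.sum_sub_distrib, mul_ite, mul_one, mul_zero, Finset.sum_ite_eq,
      Finset.mem_univ, if_true, K.ex_deg eta 1]
    ring
  rw [hL, hsumχ] at hR
  have hd : (K.ex eta 0 : G → ℂ) 1 ≠ 0 := Char.irr_one_ne_zero (K.ex eta 0).2
  have hG : Nat.card G = T.M.index * (Nat.card T.S * (Nat.card K.V * i0)) := by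
    rw [hi0, ← K.card_M_eq, Subgroup.index_mul_card]
  have hclass : Nat.card {x : G // IsConj t x} = T.M.index * i0 := by
    have := Char.card_isConj_mul_card_centralizer t
    rw [K.card_cent, hG, ← Fintype.card_subtype, ← Nat.card_eq_fintype_card] at this
    refine Nat.eq_of_mul_eq_mul_right (Nat.mul_pos (Nat.card_pos (α := T.S))
      (Nat.card_pos (α := K.V))) ?_
    rw [this]; ring
  rw [K.card_M_eq, hG, hcl, hclass, ← hi0] at hR
  push_cast at hR
  have hsub := K.ex_t_sub eta (show (1 : Fin 3) ≠ 0 by decide)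
  rw [← hi0, ← ht] at hsub
  have hn : (T.M.index : ℂ) ≠ 0 := Nat.cast_ne_zero.2 Subgroup.index_ne_zero_of_finite
  have hq : (Nat.card T.S : ℂ) ≠ 0 := Nat.cast_ne_zero.2 Nat.card_pos.ne'
  have hm : (Nat.card K.V : ℂ) ≠ 0 := Nat.cast_ne_zero.2 Nat.card_pos.ne'
  have hi : (i0 : ℂ) ≠ 0 := Nat.cast_ne_zero.2 (by have : 2 ≤ i0 := K.two_le; omega)
  have hq0 : (i0 : ℂ) + 1 ≠ 0 := by exact_mod_cast Nat.succ_ne_zero i0
  have hfac : (K.eps eta : ℂ) * ((K.ex eta 0 : G → ℂ) t * (K.ex eta 0 : G → ℂ) t -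
      (K.ex eta 1 : G → ℂ) t * (K.ex eta 1 : G → ℂ) t) =
      ((i0 : ℂ) + 1) * ((K.ex eta 0 : G → ℂ) t + (K.ex eta 1 : G → ℂ) t) := by
    rw [← hsub]; ring
  rw [hfac] at hR
  field_simp at hR
  linear_combination -hR

theorem per_eta (n q r i d X eps k : ℤ) (heps : eps = 1 ∨ eps = -1) (hi : 2 ≤ i)
    (hr : i + 1 ≤ r) (hq : q = r * (i + 1)) (hX : X = d - q * k) (hd : 0 < d) (hn : 0 < n)
    (hmod : q ∣ n - 1) (h : n * i * (X + (X - eps * (i + 1))) = d * (i - 1)) :
    n * n * (i * i) * ((r + 2) * (r + 2) + (i + 1) * (i + 1)) ≤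
      ((r + 2) * (r + 2) + (i + 1) * (i + 1)) * (d * d) +
        2 * (n * n * (i * i)) * (X * X + (X - eps * (i + 1)) * (X - eps * (i + 1))) := by
  obtain ⟨a, ha⟩ := hmod
  have hdvd : r ∣ X - eps * i := by
    refine ⟨(k * (i - 1) - a * i * (2 * X - eps * (i + 1))), ?_⟩
    refine mul_right_cancel₀ (show i + 1 ≠ 0 by omega) ?_
    have e : n = 1 + q * a := by linarith
    subst e hq
    subst hX
    linear_combination h
  obtain ⟨b, hb⟩ := hdvd
  have hP : 0 ≤ (r + 2) * (r + 2) + (i + 1) * (i + 1) :=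
    add_nonneg (mul_self_nonneg _) (mul_self_nonneg _)
  have hN : 0 ≤ n * n * (i * i) := mul_nonneg (mul_self_nonneg _) (mul_self_nonneg _)
  rcases eq_or_ne b 0 with rfl | hb0
  · rw [mul_zero] at hb
    have hX' : X = eps * i := by linarith
    have e : n * i * (eps * (i - 1)) = d * (i - 1) := by rw [← h, hX']; ring
    have e' : d = n * i * eps := by
      refine mul_right_cancel₀ (show i - 1 ≠ 0 by omega) ?_
      rw [← e]; ring
    have hsq : d * d = n * n * (i * i) := by
      rcases heps with rfl | rfl <;> rw [e'] <;> ring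
    rw [hsq]
    have := mul_nonneg hN (add_nonneg (mul_self_nonneg X) (mul_self_nonneg (X - eps * (i + 1))))
    linarith
  · set z := 2 * X - eps * (i + 1) with hz
    have hzb : z = eps * (i - 1) + 2 * (r * b) := by rw [hz]; linarith
    have hzz : (r + 2) * (r + 2) ≤ z * z := by
      rcases lt_or_gt_of_ne hb0 with hb' | hb'
      · have : r * b ≤ -r := by nlinarith
        rcases heps with rfl | rfl <;> nlinarith
      · have : r ≤ r * b := by nlinarith
        rcases heps with rfl | rfl <;> nlinarith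
    have hsq : 2 * (X * X + (X - eps * (i + 1)) * (X - eps * (i + 1))) =
        z * z + (i + 1) * (i + 1) := by
      rw [hz]
      rcases heps with rfl | rfl <;> ring
    have h1 : 0 ≤ ((r + 2) * (r + 2) + (i + 1) * (i + 1)) * (d * d) :=
      mul_nonneg hP (mul_self_nonneg d)
    nlinarith [mul_le_mul_of_nonneg_left (add_le_add_left hzz ((i + 1) * (i + 1))) hN]

end

include K in
theorem absurd_cfg : False := by
  classical
  letI : Fintype G := Fintype.ofFinite G
  letI : Fintype ↥T.M := Fintype.ofFinite _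
  haveI := finite_homs (X := K.V)
  letI : Fintype (K.V →* ℂˣ) := Fintype.ofFinite _
  set t : G := ((K.t : ↥T.M) : G) with ht
  set i0 := Nat.card (I (T := T)) with hi0
  obtain ⟨r, hqr, hr⟩ := K.exists_r
  have hcardη : Nat.card (K.V →* ℂˣ) = Nat.card K.V := card_homs K.V_comm
  choose d hd0 hd using fun eta => Char.irr_one_pos (K.ex eta 0).2
  choose k hk using K.ex_t
  have hY : ∀ eta, ∀ j : Fin 3, j ≠ 0 → (K.ex eta j : G → ℂ) t =
      (((d eta : ℤ) - (Nat.card T.S : ℤ) * k eta - K.eps eta * ((i0 : ℤ) + 1) : ℤ) : ℂ) := by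
    intro eta j hj
    have h := K.ex_t_sub eta hj
    rw [hk eta, hd eta, ← hi0, ← ht] at h
    push_cast
    rcases K.eps_spec eta with he | he <;> rw [he] at h ⊢ <;> push_cast at h ⊢ <;>
      first | linear_combination -h | linear_combination h
  set X : (K.V →* ℂˣ) → ℤ := fun eta => (d eta : ℤ) - (Nat.card T.S : ℤ) * k eta with hX
  have hX0 : ∀ eta, (K.ex eta 0 : G → ℂ) t = (X eta : ℂ) := fun eta => by
    rw [ht, hk eta, hd eta, hX]; push_cast; ring
  set n : ℤ := (T.M.index : ℤ) with hn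
  set q : ℤ := (Nat.card T.S : ℤ) with hq
  set m : ℤ := (Nat.card K.V : ℤ) with hm
  set i : ℤ := (i0 : ℤ) with hi
  set P : ℤ := ((r : ℤ) + 2) * ((r : ℤ) + 2) + (i + 1) * (i + 1) with hP
  have hmod : q ∣ n - 1 := by
    have h := Nat.modEq_iff_dvd.1 T.modEq.symm
    rw [hn, hq]
    exact_mod_cast h
  have hnpos : 0 < n := by
    rw [hn]; exact_mod_cast Nat.pos_of_ne_zero Subgroup.index_ne_zero_of_finite
  have hqn : q < n := by
    obtain ⟨a, ha⟩ := hmod
    have hn1 : n ≠ 1 := by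
      rw [hn]; exact_mod_cast T.indexNe
    have hqpos : 0 < q := by rw [hq]; exact_mod_cast Nat.card_pos
    rcases lt_trichotomy a 0 with h | h | h
    · nlinarith
    · subst h; omega
    · nlinarith
  have hper : ∀ eta, n * n * (i * i) * P ≤ P * ((d eta : ℤ) * (d eta : ℤ)) +
      2 * (n * n * (i * i)) * (X eta * X eta +
        (X eta - K.eps eta * (i + 1)) * (X eta - K.eps eta * (i + 1))) := by
    intro eta
    refine per_eta n q r i (d eta) (X eta) (K.eps eta) (k eta) (K.eps_spec eta)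
      (by rw [hi]; exact_mod_cast K.two_le) (by rw [hi]; exact_mod_cast hr)
      (by rw [hq, hi]; exact_mod_cast hqr) rfl (by exact_mod_cast hd0 eta) hnpos hmod ?_
    have h := K.key_eq eta
    rw [← ht, hX0 eta, hY eta 1 (by decide), hd eta, ← hi0] at h
    rw [hn, hi]
    exact_mod_cast h
  -- the degrees
  set Xs := Finset.univ.image (fun p : (K.V →* ℂˣ) × Fin 3 => K.ex p.1 p.2) with hXs
  have hdeg : 3 * ∑ eta, (d eta : ℤ) * (d eta : ℤ) ≤ n * (q * (m * i)) := by
    have h0 := Char.sum_irr_degree_sq (G := G)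
    choose D _ hD using fun χ : Cfsg.IrrCharacter G => Char.irr_one_pos χ.2
    simp only [hD] at h0
    have h1 : ∑ χ, D χ ^ 2 = Nat.card G := by exact_mod_cast h0
    have hle : ∑ χ ∈ Xs, D χ ^ 2 ≤ ∑ χ, D χ ^ 2 :=
      Finset.sum_le_sum_of_subset (Finset.subset_univ _)
    rw [hXs, Finset.sum_image (fun p _ p' _ h => K.ex_inj h), h1, Fintype.sum_prod_type,
      ← T.M.index_mul_card, K.card_M_eq, ← hi0] at hle
    have hDd : ∀ eta j, D (K.ex eta j) = d eta := fun eta j => by
      have := (hD (K.ex eta j)).symm.trans ((K.ex_deg eta j).trans (hd eta))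
      exact_mod_cast this
    simp only [hDd, Finset.sum_const, Finset.card_univ, Fintype.card_fin, smul_eq_mul,
      ← Finset.mul_sum, sq] at hle
    rw [hn, hq, hm, hi]
    exact_mod_cast hle
  -- the values at `t`
  have hval : ∑ eta, (X eta * X eta + (X eta - K.eps eta * (i + 1)) *
      (X eta - K.eps eta * (i + 1))) ≤ q * m := by
    have h0 := Char.sum_irr_mul_conj t t
    rw [if_pos (IsConj.refl t), K.card_cent] at h0
    simp only [Complex.mul_conj] at h0
    have h1 : ∑ χ : Cfsg.IrrCharacter G, Complex.normSq ((χ : G → ℂ) t) =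
        ((Nat.card T.S * Nat.card K.V : ℕ) : ℝ) := by exact_mod_cast h0
    have hle : ∑ χ ∈ Xs, Complex.normSq ((χ : G → ℂ) t) ≤
        ∑ χ : Cfsg.IrrCharacter G, Complex.normSq ((χ : G → ℂ) t) :=
      Finset.sum_le_sum_of_subset_of_nonneg (Finset.subset_univ _)
        fun χ _ _ => Complex.normSq_nonneg _
    rw [hXs, Finset.sum_image (fun p _ p' _ h => K.ex_inj h), h1, Fintype.sum_prod_type] at hle
    simp only [Fin.sum_univ_three, hX0, hY _ 1 (by decide), hY _ 2 (by decide),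
      Complex.normSq_intCast] at hle
    have hle2 : ((∑ eta, (X eta * X eta + (X eta - K.eps eta * (i + 1)) *
        (X eta - K.eps eta * (i + 1)) + (X eta - K.eps eta * (i + 1)) *
        (X eta - K.eps eta * (i + 1))) : ℤ) : ℝ) ≤ ((q * m : ℤ) : ℝ) := by
      refine le_trans (le_of_eq ?_) (le_trans hle (le_of_eq ?_))
      · simp only [hX, hi]; push_cast; rfl
      · simp only [hq, hm]; push_cast; rfl
    refine le_trans (Finset.sum_le_sum fun eta _ => ?_) (Int.cast_le.1 hle2)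
    have := mul_self_nonneg (X eta - K.eps eta * (i + 1))
    linarith
  have hsum := Finset.sum_le_sum fun eta (_ : eta ∈ Finset.univ) => hper eta
  rw [Finset.sum_const, Finset.card_univ, ← Nat.card_eq_fintype_card, hcardη, nsmul_eq_mul,
    Finset.sum_add_distrib, ← Finset.mul_sum, ← Finset.mul_sum, ← hm] at hsum
  have hr' : i + 1 ≤ (r : ℤ) := by rw [hi]; exact_mod_cast hr
  have hi2 : 2 ≤ i := by rw [hi]; exact_mod_cast K.two_le
  have hqr' : q = (r : ℤ) * (i + 1) := by rw [hq, hi]; exact_mod_cast hqr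
  have hmpos : 0 < m := by rw [hm]; exact_mod_cast Nat.card_pos
  have hP0 : 0 ≤ P := add_nonneg (mul_self_nonneg _) (mul_self_nonneg _)
  have hA : 3 * (m * (n * n * (i * i) * P)) ≤
      n * i * m * (P * q + 6 * (n * i) * q) := by
    nlinarith [mul_le_mul_of_nonneg_left hdeg hP0,
      mul_le_mul_of_nonneg_left hval (mul_nonneg (mul_self_nonneg n) (mul_self_nonneg i))]
  have hB : 3 * (n * i) * P ≤ P * q + 6 * (n * i) * q := by
    refine le_of_mul_le_mul_left ?_ (show 0 < n * i * m by positivity)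
    linarith
  have hPpos : 2 * (r : ℤ) * (i + 1) + 4 * r ≤ P := by
    nlinarith [mul_self_nonneg ((r : ℤ) - (i + 1))]
  have hC : n * (P * (3 * i - 1)) < n * (6 * i * q) := by
    have : P * q < P * n := mul_lt_mul_of_pos_left hqn (by nlinarith)
    linarith
  have hD := lt_of_mul_lt_mul_left hC hnpos.le
  have hE : (2 * (r : ℤ) * (i + 1) + 4 * r) * (3 * i - 1) ≤ P * (3 * i - 1) :=
    mul_le_mul_of_nonneg_right hPpos (by linarith)
  rw [hqr'] at hD
  have hF : (r : ℤ) * ((2 * (i + 1) + 4) * (3 * i - 1)) < r * (6 * i * (i + 1)) := by linarith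
  have := lt_of_mul_lt_mul_left hF (by linarith : (0 : ℤ) ≤ r)
  nlinarith

end Cfsg.Agent.AGHall.Cfg
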