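import Cfsg.Agent.AGHall.Elem
import Cfsg.Agent.AGHall.TIFalse
import Mathlib.GroupTheory.Transfer

/-!
A group with abelian Sylow subgroups and a subgroup of odd order and 2-power index is solvable.
-/

set_option autoImplicit false

open Subgroup

namespace Cfsg.Agent.AGHall

variable {G : Type*} [Group G] [Finite G]

theorem index_eq_two_pow_of_dvd {n a : ℕ} (h : n ∣ 2 ^ a) : ∃ b, n = 2 ^ b := by
  obtain ⟨b, -, hb⟩ := (Nat.dvd_prime_pow Nat.prime_two).1 h
  exact ⟨b, hb⟩

/-- The simple case. -/
theorem base_false (B : Base G) [IsSimpleGroup G] (hS : B.S ≠ ⊤) : False := by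
  classical
  by_cases hsq : ∀ y ∈ B.S, y * y = 1
  · exact B.elementary_false hsq
  push Not at hsq
  obtain ⟨y, hy, hyy⟩ := hsq
  set T := B.toTI with hT
  obtain ⟨k, hk⟩ := exists_involution_pow B.two (B.S.mul_mem hy hy) hyy
  set u := (y * y) ^ k with hu
  have huS : u ∈ B.S := pow_mem (B.S.mul_mem hy hy) k
  have hroot : y ^ k * y ^ k = u := by rw [hu, ← (Commute.refl y).mul_pow]
  by_cases hone : ∀ v ∈ B.S, orderOf v = 2 → v = u
  · -- a single involution: `S` is central in its normalizer
    haveI : IsMulCommutative B.S :=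
      ⟨⟨fun p p' => Subtype.ext (B.comm p.2 p'.2)⟩⟩
    have hWc : B.W ≤ centralizer (B.S : Set G) := by
      refine S0056.result B.W B.S inf_le_right
        (B.coprime.coprime_dvd_right (card_dvd_of_le inf_le_left)).symm ?_
      intro v hv hp w hw
      obtain ⟨i, hi⟩ := orderOf_two_pow_of_mem B.two hv
      have hv2 : orderOf v = 2 := by
        rw [hi] at hp ⊢
        rw [Nat.Prime.eq_one_of_pow hp, pow_one]
      have hvu := hone v hv hv2
      have hc : w * v * w⁻¹ = v := by
        rw [hone (w * v * w⁻¹) (B.conj_mem hw hv)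
          ((MulEquiv.orderOf_eq (MulAut.conj w) v).trans hv2), hvu]
      exact mul_inv_eq_iff_eq_mul.1 hc
    have hNC : normalizer (B.S : Set G) ≤ centralizer (B.S : Set G) := by
      intro x hx
      obtain ⟨p, hp, w, hw, rfl⟩ := B.decomp hx
      exact mul_mem (Subgroup.le_centralizer B.S hp) (hWc hw)
    haveI : Fact (Nat.Prime 2) := ⟨Nat.prime_two⟩
    set P : Sylow 2 G := B.two.toSylow (by
      rw [← even_iff_two_dvd, Nat.not_even_iff_odd]
      exact B.oddIndex) with hP
    have hPS : (P : Subgroup G) = B.S := rfl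
    have hc := MonoidHom.ker_transferSylow_isComplement' P
      (by intro x hx; exact hNC hx)
    rcases (inferInstance : ((MonoidHom.transferSylow P (by intro x hx; exact hNC hx)).ker).Normal)
      |>.eq_bot_or_eq_top with h | h
    · rw [h] at hc
      exact hS (isComplement'_bot_left.1 hc)
    · rw [h] at hc
      exact B.ne (isComplement'_top_left.1 hc)
  push Not at hone
  obtain ⟨v, hv, hv2, hvu⟩ := hone
  let t : T.sp.S := ⟨⟨u, T.S_le_M huS⟩, huS⟩
  have ht : orderOf t = 2 := by
    rw [← Subgroup.orderOf_coe, ← Subgroup.orderOf_coe]; exact hk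
  have ht1 : t ≠ 1 := fun e => by rw [e, orderOf_one] at ht; omega
  have htt : t * t = 1 := by
    have := pow_orderOf_eq_one t
    rwa [ht, sq] at this
  obtain ⟨mu, hmu, hmut⟩ := T.sp.exists_invariant
    (U := T.sp.W ⊓ centralizer ({(t : ↥T.M)} : Set ↥T.M)) inf_le_left htt ht1
    fun x hx => mem_centralizer_singleton_iff.1 hx.2
  refine Cfg.absurd_cfg (T := T)
    { t := t, ht := ht, mu := mu, mu_t := hmut, mu_stab := hmu
      hexp := ?_, two_le := ?_ }
  · intro z hz
    obtain ⟨w, hw, hwz⟩ := T.trans u huS _ z.2 hk (Cfg.orderOf_val hz)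
    refine ⟨⟨⟨w * y ^ k * w⁻¹, T.S_le_M (B.conj_mem hw (pow_mem hy k))⟩,
      B.conj_mem hw (pow_mem hy k)⟩, Subtype.ext (Subtype.ext ?_)⟩
    show w * y ^ k * w⁻¹ * (w * y ^ k * w⁻¹) = _
    refine Eq.trans ?_ hwz
    rw [← hroot]
    group
  · have hv' : orderOf (⟨⟨v, T.S_le_M hv⟩, hv⟩ : T.sp.S) = 2 := by
      rw [← Subgroup.orderOf_coe, ← Subgroup.orderOf_coe]; exact hv2
    exact Finite.one_lt_card_iff_nontrivial.2 ⟨⟨⟨t, ht⟩, ⟨_, hv'⟩, fun e => hvu
      (congrArg (fun s : {s : T.sp.S // orderOf s = 2} => ((s.1 : ↥T.M) : G)) e).symm⟩⟩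

theorem hall_aux (n : ℕ) : ∀ {G : Type*} [Group G] [Finite G], Nat.card G ≤ n → AbSylows G →
    ∀ C : Subgroup G, Odd (Nat.card C) → (∃ a, C.index = 2 ^ a) → Group.IsSolvable G := by
  induction n with
  | zero => intro G _ _ h; exact absurd h (by have := Nat.card_pos (α := G); omega)
  | succ n ih =>
    intro G _ _ hn hA C hC ⟨a, ha⟩
    classical
    by_contra hG
    by_cases hnorm : ∃ N : Subgroup G, N.Normal ∧ N ≠ ⊥ ∧ N ≠ ⊤
    · obtain ⟨N, hN, hb, ht⟩ := hnorm
      haveI := hN
      have hNlt : Nat.card N < Nat.card G :=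
        lt_of_le_of_ne (Subgroup.card_le_card_group N) fun e => ht (eq_top_of_card_eq N e)
      have h1 : Group.IsSolvable N := by
        refine ih (by omega) (hA.subgroup N) (C.subgroupOf N) ?_ ?_
        · rw [← inf_subgroupOf_right,
            Nat.card_congr (subgroupOfEquivOfLe (inf_le_right : C ⊓ N ≤ N)).toEquiv]
          exact hC.of_dvd_nat (card_dvd_of_le inf_le_left)
        · refine index_eq_two_pow_of_dvd (a := a) ?_
          rw [← ha]
          show C.relIndex N ∣ C.index
          rw [← inf_relIndex_right]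
          have h2 : (C ⊓ N).relIndex N = C.relIndex (C ⊔ N) := by
            rw [inf_relIndex_right]
            have e1 : C.relIndex (C ⊔ N) * N.relIndex C = C.relIndex N * N.relIndex C := by
              have a1 := relIndex_mul_relIndex (C ⊓ N) C (C ⊔ N) inf_le_left le_sup_left
              have a2 := relIndex_mul_relIndex (C ⊓ N) N (C ⊔ N) inf_le_right le_sup_right
              rw [inf_relIndex_left] at a1
              rw [inf_relIndex_right, relIndex_sup_right] at a2
              rw [mul_comm (C.relIndex (C ⊔ N)), a1, a2]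
            exact (Nat.eq_of_mul_eq_mul_right (Nat.pos_of_ne_zero
              index_ne_zero_of_finite) e1).symm
          rw [h2]
          exact relIndex_dvd_index_of_le le_sup_left
      have h2 : Group.IsSolvable (G ⧸ N) := by
        refine ih ?_ (hA.quotient N) (C.map (QuotientGroup.mk' N))
          (hC.of_dvd_nat (card_map_dvd C (QuotientGroup.mk' N))) ?_
        · have := Subgroup.index_mul_card N
          rw [← Subgroup.index_eq_card]
          have h3 : 1 < Nat.card N := one_lt_card_iff_ne_bot N |>.2 hb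
          have h4 : N.index ≠ 0 := index_ne_zero_of_finite
          nlinarith
        · refine index_eq_two_pow_of_dvd (a := a) ?_
          rw [← ha]
          exact index_map_dvd C (QuotientGroup.mk'_surjective N)
      exact hG ((Group.isSolvable_iff_subgroup_quotient N).2 ⟨h1, h2⟩)
    push Not at hnorm
    haveI : Nontrivial G := by
      by_contra h
      rw [not_nontrivial_iff_subsingleton] at h
      exact hG (Group.isSolvable_of_comm fun x y => Subsingleton.elim _ _)
    haveI : IsSimpleGroup G := ⟨fun N hN => or_iff_not_imp_left.2 fun hb => hnorm N hN hb⟩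
    haveI : Fact (Nat.Prime 2) := ⟨Nat.prime_two⟩
    obtain ⟨S⟩ : Nonempty (Sylow 2 G) := inferInstance
    have hcard : Nat.card (S : Subgroup G) = 2 ^ a := by
      have h1 : Nat.card C * 2 ^ a = Nat.card G := by rw [← ha, card_mul_index]
      rw [S.card_eq_multiplicity, ← h1, Nat.factorization_mul Nat.card_pos.ne' (by positivity),
        Finsupp.add_apply, Nat.factorization_eq_zero_of_not_dvd
          (fun h => Nat.not_even_iff_odd.2 hC (even_iff_two_dvd.2 h)), zero_add,
        Nat.Prime.factorization_pow Nat.prime_two, Finsupp.single_eq_same]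
    have hCtop : C ≠ ⊤ := fun h => hG (S0205.result (by rw [h, Subgroup.card_top] at hC; exact hC))
    have hST : (S : Subgroup G) ≠ ⊤ := fun h => hG (Group.isSolvable_of_comm fun x y =>
      hA 2 Nat.prime_two S S.isPGroup' x (h ▸ mem_top x) y (h ▸ mem_top y))
    have hSb : (S : Subgroup G) ≠ ⊥ := fun h => hCtop (by
      rw [h, Subgroup.card_bot] at hcard
      rw [← Subgroup.index_eq_one, ha, ← hcard])
    have hind : ∀ H : Subgroup G, (S : Subgroup G) ≤ H → H ≠ ⊤ → Group.IsSolvable H := by
      intro H hSH hH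
      have hlt : Nat.card H < Nat.card G :=
        lt_of_le_of_ne (Subgroup.card_le_card_group H) fun e => hH (eq_top_of_card_eq H e)
      have hoddCH : Odd (Nat.card (C.subgroupOf H)) := by
        rw [← inf_subgroupOf_right,
          Nat.card_congr (subgroupOfEquivOfLe (inf_le_right : C ⊓ H ≤ H)).toEquiv]
        exact hC.of_dvd_nat (card_dvd_of_le inf_le_left)
      refine ih (by omega) (hA.subgroup H) (C.subgroupOf H) hoddCH ⟨a, ?_⟩
      have hmul : (C.subgroupOf H).index * Nat.card (C.subgroupOf H) = Nat.card H :=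
        Subgroup.index_mul_card _
      have hd : 2 ^ a ∣ (C.subgroupOf H).index * Nat.card (C.subgroupOf H) := by
        rw [hmul, ← hcard]; exact card_dvd_of_le hSH
      have hd' : 2 ^ a ∣ (C.subgroupOf H).index :=
        (hoddCH.coprime_two_left.pow_left a).dvd_of_dvd_mul_right hd
      refine le_antisymm ?_ (Nat.le_of_dvd (Nat.pos_of_ne_zero index_ne_zero_of_finite) hd')
      refine (relIndex_le_of_le_right (H := C) (K := H) (L := ⊤) le_top ?_).trans_eq ?_
      · rw [relIndex_top_right]; exact index_ne_zero_of_finite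
      · rw [relIndex_top_right, ha]
    refine base_false
      { S := (S : Subgroup G), C := C, ab := hA, two := S.isPGroup', codd := hC
        index := by rw [ha, hcard]
        core := ?_, centre := ?_, ind := hind, ne := hSb, nn := ?_ } hST
    · exact (C.normalCore_normal).eq_bot_or_eq_top.resolve_right fun h =>
        hCtop (top_le_iff.1 (h ▸ normalCore_le C))
    · refine (inferInstance : (center G).Normal).eq_bot_or_eq_top.resolve_right fun h => ?_
      exact hG (Group.isSolvable_of_comm fun x y =>
        (mem_center_iff.1 (h ▸ mem_top x : x ∈ center G) y).symm)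
    · exact fun h => h.eq_bot_or_eq_top.elim hSb hST

/-- A group with abelian Sylow subgroups and a subgroup of odd order and 2-power index is
solvable. -/
theorem hall (hA : AbSylows G) (C : Subgroup G) (hC : Odd (Nat.card C))
    (ha : ∃ a, C.index = 2 ^ a) : Group.IsSolvable G :=
  hall_aux _ le_rfl hA C hC ha

end Cfsg.Agent.AGHall
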