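import Cfsg.Agent.AGHall.Struct

/-!
The strongly embedded configuration attached to the standing hypotheses.
-/

set_option autoImplicit false

open Subgroup
open scoped Pointwise

namespace Cfsg.Agent.AGHall

variable {G : Type*} [Group G] [Finite G]

namespace Base

variable (B : Base G)

theorem comm {x y : G} (hx : x ∈ B.S) (hy : y ∈ B.S) : x * y = y * x :=
  B.ab 2 Nat.prime_two B.S B.two x hx y hy

/-- The complement of `S` in its normalizer. -/
def W : Subgroup G := B.C ⊓ normalizer (B.S : Set G)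

theorem W_odd : Odd (Nat.card B.W) := B.codd.of_dvd_nat (card_dvd_of_le inf_le_left)

theorem decomp {x : G} (hx : x ∈ normalizer (B.S : Set G)) :
    ∃ p ∈ B.S, ∃ w ∈ B.W, x = p * w := by
  obtain ⟨p, hp, c, hc, rfl⟩ := B.exists_mul x
  refine ⟨p, hp, c, ⟨hc, ?_⟩, rfl⟩
  have := (normalizer (B.S : Set G)).mul_mem
    ((normalizer (B.S : Set G)).inv_mem (Subgroup.le_normalizer hp)) hx
  simpa using this

theorem conj_mem {w x : G} (hw : w ∈ B.W) (hx : x ∈ B.S) : w * x * w⁻¹ ∈ B.S :=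
  (mem_normalizer_iff.1 hw.2 x).1 hx

theorem exists_notMem : ∃ g : G, g ∉ normalizer (B.S : Set G) := by
  by_contra h
  push Not at h
  exact B.nn ⟨fun x hx g => (mem_normalizer_iff.1 (h g) x).1 hx⟩

theorem trans {t u : G} (ht : t ∈ B.S) (hu : u ∈ B.S) (ht2 : orderOf t = 2) (hu2 : orderOf u = 2) :
    ∃ w ∈ B.W, w * t * w⁻¹ = u := by
  have ht1 : t ≠ 1 := fun h => by rw [h, orderOf_one] at ht2; omega
  have hu1 : u ≠ 1 := fun h => by rw [h, orderOf_one] at hu2; omega
  obtain ⟨g, hg⟩ := B.exists_notMem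
  set s := g * t * g⁻¹ with hs
  have hs2 : orderOf s = 2 := (MulEquiv.orderOf_eq (MulAut.conj g) t).trans ht2
  have hsN : s ∉ normalizer (B.S : Set G) := fun h => ht1 (B.ti g hg t ht
    (B.mem_of_two_of_mem_normalizer (k := 1) h (by rw [hs2, pow_one])))
  clear_value s
  have hconj : ∀ v ∈ B.S, orderOf v = 2 → ∃ d : G, d * v * d⁻¹ = s := by
    intro v hv hv2
    rcases Nat.even_or_odd (orderOf (v * s)) with he | ho
    · exfalso
      obtain ⟨j, hj⟩ := he
      have hsi : s⁻¹ = s := inv_eq_of_mul_eq_one_right (by rw [← sq, ← hs2, pow_orderOf_eq_one])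
      have hvi : v⁻¹ = v := inv_eq_of_mul_eq_one_right (by rw [← sq, ← hv2, pow_orderOf_eq_one])
      set z := (v * s) ^ j with hz
      have hj0 : j ≠ 0 := by
        rintro rfl
        exact (orderOf_pos (v * s)).ne' (by simpa using hj)
      have hz2 : orderOf z = 2 := by
        rw [hz, show j = orderOf (v * s) / 2 by omega]
        exact orderOf_pow_orderOf_div (orderOf_pos _).ne' ⟨j, by omega⟩
      have hzi : z⁻¹ = z := inv_eq_of_mul_eq_one_right (by rw [← sq, ← hz2, pow_orderOf_eq_one])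
      have hvc : v * z * v⁻¹ = z := by
        have : v * (v * s) * v⁻¹ = (v * s)⁻¹ := by
          rw [mul_inv_rev, hsi, hvi]
          calc v * (v * s) * v = (v * v) * s * v := by group
            _ = s * v := by rw [show v * v = 1 by rw [← sq, ← hv2, pow_orderOf_eq_one], one_mul]
        rw [hz, ← conj_pow, this, inv_pow, ← hz, hzi]
      have hv1 : v ≠ 1 := fun h => by rw [h, orderOf_one] at hv2; omega
      have hzN : z ∈ normalizer (B.S : Set G) := B.cent hv hv1 (mem_centralizer_singleton_iff.2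
        (mul_inv_eq_iff_eq_mul.1 hvc).symm)
      have hzS : z ∈ B.S := B.mem_of_two_of_mem_normalizer (k := 1) hzN (by rw [hz2, pow_one])
      have hz1 : z ≠ 1 := fun h => by rw [h, orderOf_one] at hz2; omega
      refine hsN (B.cent hzS hz1 (mem_centralizer_singleton_iff.2 ?_))
      have h2 : s * z * s⁻¹ = z := by
        have : s * (v * s) * s⁻¹ = (v * s)⁻¹ := by
          rw [mul_inv_rev, hsi, hvi]
          calc s * (v * s) * s = s * v * (s * s) := by group
            _ = s * v := by rw [show s * s = 1 by rw [← sq, ← hs2, pow_orderOf_eq_one], mul_one]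
        rw [hz, ← conj_pow, this, inv_pow, ← hz, hzi]
      exact mul_inv_eq_iff_eq_mul.1 h2
    · obtain ⟨d, -, hd⟩ := S0208.result v s hv2 hs2 ho
      exact ⟨d, hd⟩
  obtain ⟨d, hd⟩ := hconj t ht ht2
  obtain ⟨e, he⟩ := hconj u hu hu2
  have h : (e⁻¹ * d) * t * (e⁻¹ * d)⁻¹ = u := by
    calc (e⁻¹ * d) * t * (e⁻¹ * d)⁻¹ = e⁻¹ * (d * t * d⁻¹) * e := by group
      _ = e⁻¹ * (e * u * e⁻¹) * e := by rw [hd, he]
      _ = u := by group
  have hN : e⁻¹ * d ∈ normalizer (B.S : Set G) := by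
    by_contra hn
    exact ht1 (B.ti _ hn t ht (h.symm ▸ hu))
  obtain ⟨p, hp, w, hw, hpw⟩ := B.decomp hN
  refine ⟨w, hw, ?_⟩
  rw [hpw] at h
  calc w * t * w⁻¹ = p⁻¹ * (p * w * t * (p * w)⁻¹) * p := by group
    _ = p⁻¹ * u * p := by rw [h]
    _ = u := by rw [mul_assoc, B.comm hu hp, inv_mul_cancel_left]

theorem index_modEq : (normalizer (B.S : Set G)).index ≡ 1 [MOD Nat.card B.S] := by
  classical
  haveI : Fact (Nat.Prime 2) := ⟨Nat.prime_two⟩
  set M := normalizer (B.S : Set G)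
  set X := G ⧸ M
  have hstab : ∀ g : G, g ∉ M → MulAction.stabilizer B.S (g : X) = ⊥ := by
    intro g hg
    rw [eq_bot_iff]
    intro p hp
    rw [MulAction.mem_stabilizer_iff] at hp
    change ((((p : G) * g : G)) : X) = (g : X) at hp
    rw [QuotientGroup.eq] at hp
    have hm : g⁻¹ * (p : G) * g ∈ M := by
      have := M.inv_mem hp
      simpa [mul_assoc] using this
    obtain ⟨k, hk⟩ := orderOf_two_pow_of_mem B.two p.2
    have hS : g⁻¹ * (p : G) * g ∈ B.S := B.mem_of_two_of_mem_normalizer (k := k) hm (by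
      rw [← hk]
      simpa using MulEquiv.orderOf_eq (MulAut.conj g⁻¹) (p : G))
    have := B.ti g⁻¹ (fun h => hg (by simpa using M.inv_mem h)) p p.2 (by simpa using hS)
    exact mem_bot.2 (Subtype.ext this)
  have hbase : ∀ p : B.S, p • ((1 : G) : X) = ((1 : G) : X) := by
    intro p
    change (((p : G) * 1 : G) : X) = ((1 : G) : X)
    rw [mul_one, QuotientGroup.eq, mul_one]
    exact M.inv_mem (Subgroup.le_normalizer p.2)
  haveI : Fintype (Quotient (MulAction.orbitRel B.S X)) := Fintype.ofFinite _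
  set ω₀ : Quotient (MulAction.orbitRel B.S X) := Quotient.mk'' ((1 : G) : X)
  have hout : ω₀.out = ((1 : G) : X) := by
    obtain ⟨p, hp⟩ : ω₀.out ∈ MulAction.orbit B.S ((1 : G) : X) :=
      MulAction.orbitRel_apply.1 (Quotient.exact' (Quotient.out_eq' ω₀))
    rw [← hp]
    exact hbase p
  have hcount : M.index = ∑ ω : Quotient (MulAction.orbitRel B.S X),
      Nat.card (B.S ⧸ MulAction.stabilizer B.S ω.out) := by
    rw [Subgroup.index_eq_card, Nat.card_congr (MulAction.selfEquivSigmaOrbitsQuotientStabilizer B.S X),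
      Nat.card_sigma]
  rw [hcount, ← Finset.add_sum_erase _ _ (Finset.mem_univ ω₀)]
  have h0 : Nat.card (B.S ⧸ MulAction.stabilizer B.S ω₀.out) = 1 := by
    rw [← Subgroup.index_eq_card, Subgroup.index_eq_one, hout, eq_top_iff]
    exact fun p _ => hbase p
  have hrest : Nat.card B.S ∣ ∑ ω ∈ Finset.univ.erase ω₀,
      Nat.card (B.S ⧸ MulAction.stabilizer B.S ω.out) := by
    refine Finset.dvd_sum fun ω hω => ?_
    obtain ⟨g, hg⟩ := QuotientGroup.mk_surjective ω.out
    have hgM : g ∉ M := by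
      intro hgM
      apply Finset.ne_of_mem_erase hω
      rw [← Quotient.out_eq' ω, ← hg]
      have : ((g : G) : X) = ((1 : G) : X) := QuotientGroup.eq.2 (by simpa using M.inv_mem hgM)
      rw [this]
    rw [← hg, hstab g hgM, ← Subgroup.index_eq_card, Subgroup.index_bot]
  rw [h0]
  simpa using (Nat.modEq_zero_iff_dvd.2 hrest).add_left 1

/-- An abelian subgroup of `W` normalized by `W` acts semiregularly on `S`. -/
theorem semiregular {A : Subgroup G} (hA : A ≤ B.W) (hn : B.W ≤ normalizer (A : Set G))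
    (hc : ∀ a ∈ A, ∀ b ∈ A, a * b = b * a) {a y : G} (ha : a ∈ A) (hy : y ∈ B.S)
    (hay : a * y = y * a) : a = 1 ∨ y = 1 := by
  by_contra hne
  push Not at hne
  obtain ⟨ha1, hy1⟩ := hne
  obtain ⟨k, hk⟩ := exists_involution_pow B.two hy hy1
  set u := y ^ k with hu
  have huS : u ∈ B.S := pow_mem hy k
  have hau : a * u = u * a := (show Commute a y from hay).pow_right k
  set St := fun v : G => A ⊓ centralizer ({v} : Set G) with hSt
  have hcard : ∀ v ∈ B.S, orderOf v = 2 → ∀ v' ∈ B.S, orderOf v' = 2 →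
      Nat.card (St v) ≤ Nat.card (St v') := by
    intro v hv hv2 v' hv' hv2'
    obtain ⟨w, hw, rfl⟩ := B.trans hv hv' hv2 hv2'
    refine Nat.card_le_card_of_injective (fun x => ⟨w * (x : G) * w⁻¹,
      (mem_normalizer_iff.1 (hn hw) _).1 x.2.1, mem_centralizer_singleton_iff.2 ?_⟩) ?_
    · calc w * (x : G) * w⁻¹ * (w * v * w⁻¹) = w * ((x : G) * v) * w⁻¹ := by group
        _ = w * (v * (x : G)) * w⁻¹ := by rw [mem_centralizer_singleton_iff.1 x.2.2]
        _ = w * v * w⁻¹ * (w * (x : G) * w⁻¹) := by group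
    · intro x x' h
      exact Subtype.ext (mul_left_cancel (mul_right_cancel (congrArg Subtype.val h)))
  have heq : ∀ v ∈ B.S, orderOf v = 2 → ∀ v' ∈ B.S, orderOf v' = 2 → St v ≤ St v' →
      St v = St v' := fun v hv hv2 v' hv' hv2' h =>
    eq_of_le_of_card_ge h (hcard v' hv' hv2' v hv hv2)
  have key : ∀ v ∈ B.S, orderOf v = 2 → a * v = v * a := by
    intro v hv hv2
    by_contra hav
    have hvu : v ≠ u := fun h => hav (by rw [h]; exact hau)
    set x := u * v with hx
    have hxS : x ∈ B.S := B.S.mul_mem huS hv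
    have hu2 : u * u = 1 := by rw [← sq, ← hk, pow_orderOf_eq_one]
    have hvv : v * v = 1 := by rw [← sq, ← hv2, pow_orderOf_eq_one]
    have hx2 : orderOf x = 2 := by
      refine orderOf_eq_prime ?_ fun h => hvu ?_
      · rw [sq, hx]
        calc u * v * (u * v) = u * (v * u) * v := by group
          _ = (u * u) * (v * v) := by rw [B.comm hv huS]; group
          _ = 1 := by rw [hu2, hvv, one_mul]
      · exact (mul_left_cancel (hu2.trans h.symm)).symm
    have haS : a * v * a⁻¹ ∈ B.S := B.conj_mem (hA ha) hv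
    set z := v * (a * v * a⁻¹) with hz
    have hzS : z ∈ B.S := B.S.mul_mem hv haS
    have hz1 : z ≠ 1 := fun h => hav (by
      have : a * v * a⁻¹ = v := (mul_left_cancel (hvv.trans h.symm)).symm
      exact mul_inv_eq_iff_eq_mul.1 this)
    have hz2 : orderOf z = 2 := by
      refine orderOf_eq_prime ?_ hz1
      have hav2 : (a * v * a⁻¹) * (a * v * a⁻¹) = 1 := by
        calc (a * v * a⁻¹) * (a * v * a⁻¹) = a * (v * v) * a⁻¹ := by group
          _ = 1 := by rw [hvv]; group
      rw [sq, hz]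
      calc v * (a * v * a⁻¹) * (v * (a * v * a⁻¹))
          = v * ((a * v * a⁻¹) * v) * (a * v * a⁻¹) := by group
        _ = (v * v) * ((a * v * a⁻¹) * (a * v * a⁻¹)) := by rw [B.comm haS hv]; group
        _ = 1 := by rw [hvv, hav2, one_mul]
    have hzx : z = x * (a * x * a⁻¹) := by
      have : a * x * a⁻¹ = u * (a * v * a⁻¹) := by
        rw [hx]
        calc a * (u * v) * a⁻¹ = (a * u * a⁻¹) * (a * v * a⁻¹) := by group
          _ = u * (a * v * a⁻¹) := by rw [hau, mul_inv_cancel_right]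
      rw [this, hx, hz]
      symm
      calc u * v * (u * (a * v * a⁻¹)) = u * (v * u) * (a * v * a⁻¹) := by group
        _ = u * (u * v) * (a * v * a⁻¹) := by rw [B.comm hv huS]
        _ = (u * u) * v * (a * v * a⁻¹) := by group
        _ = v * (a * v * a⁻¹) := by rw [hu2, one_mul]
    have hpart : ∀ v' : G, ∀ b ∈ St v', b * (a * v' * a⁻¹) = (a * v' * a⁻¹) * b := by
      intro v' b hb
      have h1 := hc b hb.1 a ha
      have h2 := mem_centralizer_singleton_iff.1 hb.2
      calc b * (a * v' * a⁻¹) = (b * a) * v' * a⁻¹ := by group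
        _ = a * (b * v') * a⁻¹ := by rw [h1]; group
        _ = a * v' * (b * a⁻¹) := by rw [h2]; group
        _ = a * v' * (a⁻¹ * b) := by rw [hc b hb.1 a⁻¹ (A.inv_mem ha)]
        _ = (a * v' * a⁻¹) * b := by group
    have hle : ∀ v' : G, z = v' * (a * v' * a⁻¹) → St v' ≤ St z := fun v' h b hb =>
      ⟨hb.1, mem_centralizer_singleton_iff.2 (by
        rw [h, ← mul_assoc, mem_centralizer_singleton_iff.1 hb.2, mul_assoc, hpart v' b hb,
          ← mul_assoc])⟩
    have e1 := heq v hv hv2 z hzS hz2 (hle v hz)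
    have e2 := heq x hxS hx2 z hzS hz2 (hle x hzx)
    have e3 : St v ≤ St u := fun b hb => by
      have hb2 : b ∈ St x := by rw [e2, ← e1]; exact hb
      refine ⟨hb.1, mem_centralizer_singleton_iff.2 ?_⟩
      have hv' : Commute b v := mem_centralizer_singleton_iff.1 hb.2
      have hx' : Commute b x := mem_centralizer_singleton_iff.1 hb2.2
      have := hx'.mul_right hv'.inv_right
      rwa [hx, mul_inv_cancel_right] at this
    have e4 := heq v hv hv2 u huS hk e3
    have : a ∈ St v := by rw [e4]; exact ⟨ha, mem_centralizer_singleton_iff.2 hau⟩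
    exact hav (mem_centralizer_singleton_iff.1 this.2)
  haveI : IsMulCommutative B.S := ⟨⟨fun p p' => Subtype.ext (B.comm p.2 p'.2)⟩⟩
  have hAS : zpowers a ≤ centralizer (B.S : Set G) := by
    refine S0056.result (zpowers a) B.S (zpowers_le.2 (hA ha).2) ?_ ?_
    · exact (B.coprime.coprime_dvd_right (card_dvd_of_le (zpowers_le.2 (hA ha).1))).symm
    · intro v hv hp b hb
      have hv2 : orderOf v = 2 := by
        obtain ⟨i, hi⟩ := orderOf_two_pow_of_mem B.two hv
        rw [hi] at hp ⊢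
        rw [Nat.Prime.eq_one_of_pow hp, pow_one]
      obtain ⟨i, rfl⟩ := hb
      exact ((show Commute a v from key v hv hv2).zpow_left i).eq
  exact ha1 (B.eq_one (B.self (hAS (mem_zpowers a))) (hA ha).1)

/-- Stabilizers of involutions in `W` are abelian. -/
theorem stabComm {t x y : G} (ht : t ∈ B.S) (ht2 : orderOf t = 2) (hx : x ∈ B.W) (hy : y ∈ B.W)
    (hxt : x * t = t * x) (hyt : y * t = t * y) : x * y = y * x := by
  have ht1 : t ≠ 1 := fun h => by rw [h, orderOf_one] at ht2; omega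
  haveI : Group.IsSolvable B.W := S0205.result B.W_odd
  set F := Cfsg.fittingSubgroup B.W with hF
  set A := F.map B.W.subtype with hA
  haveI : Group.IsNilpotent F := Cores.fittingSubgroup_isNilpotent
  have hFc : ∀ a b : F, a * b = b * a := ((B.ab.subgroup B.W).subgroup F).comm_of_nilpotent
  have hAW : A ≤ B.W := map_subtype_le F
  have hAc : ∀ a ∈ A, ∀ b ∈ A, a * b = b * a := by
    rintro _ ⟨a, ha, rfl⟩ _ ⟨b, hb, rfl⟩
    exact congrArg (fun z : F => ((z : B.W) : G)) (hFc ⟨a, ha⟩ ⟨b, hb⟩)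
  have hAn : B.W ≤ normalizer (A : Set G) := fun w hw => by
    refine le_normalizer_map B.W.subtype ⟨⟨w, hw⟩, ?_, rfl⟩
    rw [normalizer_eq_top]
    exact mem_top _
  have hsr : ∀ a ∈ A, a ≠ 1 → B.S ⊓ centralizer ({a} : Set G) = ⊥ := by
    intro a ha ha1
    rw [eq_bot_iff]
    intro v hv
    rcases B.semiregular hAW hAn hAc ha hv.1 (mem_centralizer_singleton_iff.1 hv.2).symm with h | h
    · exact absurd h ha1
    · exact mem_bot.2 h
  haveI : IsMulCommutative A := ⟨⟨fun a b => Subtype.ext (hAc a a.2 b b.2)⟩⟩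
  have hcyc : IsCyclic A := by
    by_contra hnc
    have := S0058.result A B.S hnc (hAW.trans inf_le_right)
      (B.coprime.coprime_dvd_right (card_dvd_of_le (hAW.trans inf_le_left))).symm
    refine B.ne (this.symm.trans (eq_bot_iff.2 (iSup₂_le fun a ha => ?_)))
    rw [hsr a ha.1 ha.2]
  obtain ⟨⟨a₀, ha₀⟩, hgen⟩ := hcyc.exists_generator
  have hconj : ∀ w ∈ B.W, ∃ i : ℤ, w * a₀ * w⁻¹ = a₀ ^ i := by
    intro w hw
    obtain ⟨i, hi⟩ := hgen ⟨w * a₀ * w⁻¹, (mem_normalizer_iff.1 (hAn hw) a₀).1 ha₀⟩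
    exact ⟨i, (congrArg Subtype.val hi).symm⟩
  obtain ⟨i, hi⟩ := hconj x hx
  obtain ⟨j, hj⟩ := hconj y hy
  set k := x * y * x⁻¹ * y⁻¹ with hk
  have hxi : x⁻¹ * a₀ ^ i * x = a₀ := by rw [← hi]; group
  have hyj : y⁻¹ * a₀ ^ j * y = a₀ := by rw [← hj]; group
  have e : x * y * a₀ * (x * y)⁻¹ = y * x * a₀ * (y * x)⁻¹ := by
    calc x * y * a₀ * (x * y)⁻¹ = x * (y * a₀ * y⁻¹) * x⁻¹ := by group
      _ = (x * a₀ * x⁻¹) ^ j := by rw [hj, conj_zpow]
      _ = (y * a₀ * y⁻¹) ^ i := by rw [hi, hj, ← zpow_mul, ← zpow_mul, mul_comm]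
      _ = y * (x * a₀ * x⁻¹) * y⁻¹ := by rw [hi, conj_zpow]
      _ = _ := by group
  have hka : k * a₀ = a₀ * k := by
    obtain ⟨m, hm⟩ := hgen ⟨(y * x)⁻¹ * a₀ * (y * x),
      by simpa using (mem_normalizer_iff.1 (hAn (B.W.inv_mem (B.W.mul_mem hy hx))) a₀).1 ha₀⟩
    have hm' : a₀ ^ m = (y * x)⁻¹ * a₀ * (y * x) := congrArg Subtype.val hm
    have e2 : x * y * a₀ ^ m * (x * y)⁻¹ = a₀ := by
      rw [← conj_zpow, e, conj_zpow, hm']
      group
    have : k * a₀ * k⁻¹ = a₀ := by
      calc k * a₀ * k⁻¹ = x * y * ((y * x)⁻¹ * a₀ * (y * x)) * (x * y)⁻¹ := by rw [hk]; group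
        _ = a₀ := by rw [← hm', e2]
    exact mul_inv_eq_iff_eq_mul.1 this
  have hkW : k ∈ B.W := B.W.mul_mem (B.W.mul_mem (B.W.mul_mem hx hy) (B.W.inv_mem hx)) (B.W.inv_mem hy)
  have hkF : (⟨k, hkW⟩ : B.W) ∈ F := by
    refine Cores.centralizer_fittingSubgroup_le (mem_centralizer_iff.2 fun z hz => ?_)
    obtain ⟨m, hm⟩ := hgen ⟨(z : G), ⟨z, hz, rfl⟩⟩
    have hm' : a₀ ^ m = (z : G) := congrArg Subtype.val hm
    apply Subtype.ext
    show (z : G) * k = k * z
    rw [← hm']
    exact ((show Commute k a₀ from hka).zpow_right m).eq.symm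
  have hkt : k * t = t * k := by
    have hX : Commute x t := hxt
    have hY : Commute y t := hyt
    exact (((hX.mul_left hY).mul_left hX.inv_left).mul_left hY.inv_left).eq
  rcases B.semiregular hAW hAn hAc (a := k) ⟨⟨k, hkW⟩, hkF, rfl⟩ ht hkt with h | h
  · rw [hk] at h
    calc x * y = (x * y * x⁻¹ * y⁻¹) * (y * x) := by group
      _ = y * x := by rw [h, one_mul]
  · exact absurd h ht1

/-- The strongly embedded configuration. -/
theorem index_normalizer_ne_one : (normalizer (B.S : Set G)).index ≠ 1 := fun h => by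
  obtain ⟨g, hg⟩ := B.exists_notMem
  exact hg (Subgroup.index_eq_one.1 h ▸ mem_top g)

def toTI : TI G where
  S := B.S
  W := B.W
  two := B.two
  comm _ hx _ hy := B.comm hx hy
  wN := inf_le_right
  wodd := B.W_odd
  decomp _ hx := B.decomp hx
  ti g hg y hy h := B.ti g hg y hy h
  cent _ hy h1 := B.cent hy h1
  self := B.self
  trans _ ht _ hu h2 h2' := B.trans ht hu h2 h2'
  modEq := B.index_modEq
  indexNe := B.index_normalizer_ne_one
  oddIndex := B.oddIndex
  stabComm _ ht ht2 _ hx _ hy hxt hyt := B.stabComm ht ht2 hx hy hxt hyt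

end Base

end Cfsg.Agent.AGHall
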