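import Cfsg.Agent.AGHall.SemiFam
import Cfsg.Agent.AGHall.Struct2
import Cfsg.Agent.CharInd.TI
import Cfsg.Agent.OddChar.TIExistence
import Cfsg.Agent.S0840

/-!
The induction from the strongly embedded subgroup on its elements of even order.
-/

set_option autoImplicit false

open Subgroup
open scoped ComplexConjugate

namespace Cfsg.Agent.AGHall.TI

variable {G : Type*} [Group G] [Finite G] (T : TI G)

/-- The normalizer. -/
def M : Subgroup G := normalizer (T.S : Set G)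

theorem S_le_M : T.S ≤ T.M := Subgroup.le_normalizer

theorem W_le_M : T.W ≤ T.M := T.wN

/-- The split extension `M = S W`. -/
def sp : Split ↥T.M where
  S := T.S.subgroupOf T.M
  W := T.W.subgroupOf T.M
  normal := normal_in_normalizer
  compl := by
    refine isComplement'_of_disjoint_and_mul_eq_univ ?_ ?_
    · rw [disjoint_iff, eq_bot_iff]
      rintro x ⟨h1, h2⟩
      rw [Subgroup.mem_bot]
      exact Subtype.ext (eq_one_of_odd_of_two T.two T.wodd (mem_subgroupOf.1 h1) (mem_subgroupOf.1 h2))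
    · refine Set.eq_univ_of_forall fun x => ?_
      obtain ⟨p, hp, w, hw, h⟩ := T.decomp x x.2
      exact ⟨⟨p, T.S_le_M hp⟩, hp, ⟨w, T.W_le_M hw⟩, hw, Subtype.ext h.symm⟩
  comm x hx y hy := Subtype.ext (T.comm _ hx _ hy)
  two := T.two.comap_of_injective T.M.subtype T.M.subtype_injective
  wodd := by
    rw [Nat.card_congr (subgroupOfEquivOfLe T.W_le_M).toEquiv]
    exact T.wodd

theorem card_spS : Nat.card T.sp.S = Nat.card T.S :=
  Nat.card_congr (subgroupOfEquivOfLe T.S_le_M).toEquiv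

theorem card_spW : Nat.card T.sp.W = Nat.card T.W :=
  Nat.card_congr (subgroupOfEquivOfLe T.W_le_M).toEquiv

theorem card_M : Nat.card T.M = Nat.card T.S * Nat.card T.W := by
  rw [← T.card_spS, ← T.card_spW]
  exact T.sp.compl.card_mul_card.symm

theorem mem_S_of_two {x : G} {k : ℕ} (hx : x ∈ T.M) (ho : orderOf x = 2 ^ k) : x ∈ T.S := by
  obtain ⟨p, hp, w, hw, rfl⟩ := T.decomp x hx
  have hk : (p * w) ^ 2 ^ k = 1 := by rw [← ho, pow_orderOf_eq_one]
  have key : ∀ n : ℕ, ∃ p' ∈ T.S, (p * w) ^ n = p' * w ^ n := by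
    intro n
    induction n with
    | zero => exact ⟨1, T.S.one_mem, by simp⟩
    | succ n ih =>
      obtain ⟨p', hp', h⟩ := ih
      refine ⟨p' * (w ^ n * p * (w ^ n)⁻¹),
        T.S.mul_mem hp' ((mem_normalizer_iff.1 (T.wN (pow_mem hw n)) p).1 hp), ?_⟩
      rw [pow_succ, h, pow_succ]
      group
  obtain ⟨p', hp', h⟩ := key (2 ^ k)
  rw [hk] at h
  have hwS : w ^ 2 ^ k ∈ T.S := by
    rw [eq_inv_of_mul_eq_one_right h.symm]
    exact T.S.inv_mem hp'
  have h1 : w ^ 2 ^ k = 1 := eq_one_of_odd_of_two T.two T.wodd hwS (pow_mem hw _)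
  have hodd : Odd (orderOf w) := T.wodd.of_dvd_nat (Subgroup.orderOf_dvd_natCard T.W hw)
  have h2 : orderOf w = 1 := Nat.eq_one_of_dvd_coprimes (hodd.coprime_two_left.pow_left k)
    (orderOf_dvd_of_pow_eq_one h1) dvd_rfl
  rw [orderOf_eq_one_iff.1 h2, mul_one]
  exact hp

/-- Elements of even order of `M`. -/
def A : Set G := {x | x ∈ T.M ∧ 2 ∣ orderOf x}

theorem exists_inv_pow {a : G} (ha : a ∈ T.A) :
    ∃ k : ℕ, a ^ k ∈ T.S ∧ orderOf (a ^ k) = 2 :=
  have h2 : orderOf (a ^ (orderOf a / 2)) = 2 :=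
    orderOf_pow_orderOf_div (orderOf_pos a).ne' ha.2
  ⟨orderOf a / 2, T.mem_S_of_two (k := 1) (pow_mem ha.1 _) (by rw [h2, pow_one]), h2⟩

theorem tiA : ∀ g : G, g ∉ T.M → ∀ a ∈ T.A, g * a * g⁻¹ ∈ T.A → a = 1 := by
  intro g hg a ha hga
  exfalso
  obtain ⟨k, hkS, hk⟩ := T.exists_inv_pow ha
  have hc : g * a ^ k * g⁻¹ ∈ T.S := by
    refine T.mem_S_of_two (k := 1) ?_ ?_
    · rw [← conj_pow]; exact pow_mem hga.1 k
    · rw [pow_one]
      exact (MulEquiv.orderOf_eq (MulAut.conj g) _).trans hk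
  have := T.ti g hg _ hkS hc
  rw [this, orderOf_one] at hk
  omega

theorem centralizer_mem_M {u a : G} (hu : u ∈ T.S) (hu1 : u ≠ 1) (h : a * u = u * a) : a ∈ T.M :=
  T.cent u hu hu1 (mem_centralizer_singleton_iff.2 h)

/-- An element of even order of `M` that is a product of two involutions is an involution of `S`. -/
theorem product_involutions {a x y : G} (ha : a ∈ T.A) (hx : orderOf x = 2) (hy : orderOf y = 2)
    (h : x * y = a) : a ∈ T.S ∧ orderOf a = 2 ∧ x ∈ T.S ∧ y ∈ T.S := by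
  obtain ⟨k, hkS, hk⟩ := T.exists_inv_pow ha
  have hxi : x⁻¹ = x := inv_eq_of_mul_eq_one_right (by rw [← sq, ← hx, pow_orderOf_eq_one])
  have hyi : y⁻¹ = y := inv_eq_of_mul_eq_one_right (by rw [← sq, ← hy, pow_orderOf_eq_one])
  have hxx : x * x = 1 := by rw [← sq, ← hx, pow_orderOf_eq_one]
  have hkk : (a ^ k)⁻¹ = a ^ k :=
    inv_eq_of_mul_eq_one_right (by rw [← sq, ← hk, pow_orderOf_eq_one])
  have hxa : x * a * x⁻¹ = a⁻¹ := by
    rw [← h, mul_inv_rev, hxi, hyi]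
    calc x * (x * y) * x = x * x * y * x := by group
      _ = y * x := by rw [hxx, one_mul]
  have hxz : x * a ^ k = a ^ k * x := by
    have : x * a ^ k * x⁻¹ = a ^ k := by rw [← conj_pow, hxa, inv_pow, hkk]
    exact mul_inv_eq_iff_eq_mul.1 this
  have hk1 : a ^ k ≠ 1 := fun e => by rw [e, orderOf_one] at hk; omega
  have hxS : x ∈ T.S :=
    T.mem_S_of_two (k := 1) (T.centralizer_mem_M hkS hk1 hxz) (by rw [hx, pow_one])
  have hyM : y ∈ T.M := by
    have e : y = x * a := by rw [← h, ← mul_assoc, hxx, one_mul]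
    rw [e]
    exact mul_mem (T.S_le_M hxS) ha.1
  have hyS : y ∈ T.S := T.mem_S_of_two (k := 1) hyM (by rw [hy, pow_one])
  have haS : a ∈ T.S := h ▸ mul_mem hxS hyS
  refine ⟨haS, ?_, hxS, hyS⟩
  refine orderOf_eq_prime ?_ fun e => ?_
  · rw [sq, ← h]
    calc x * y * (x * y) = x * (y * x) * y := by group
      _ = x * (x * y) * y := by rw [T.comm y hyS x hxS]
      _ = x * x * (y * y) := by group
      _ = 1 := by rw [hxx, show y * y = 1 by rw [← sq, ← hy, pow_orderOf_eq_one], one_mul]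
  · have := ha.2
    rw [e, orderOf_one] at this
    omega

/-- Involutions of `S`. -/
def Inv : Set G := {u | u ∈ T.S ∧ orderOf u = 2}

theorem isConj_of_inv {t u : G} (ht : t ∈ T.Inv) (hu : u ∈ T.Inv) : IsConj t u := by
  obtain ⟨w, -, hw⟩ := T.trans t ht.1 u hu.1 ht.2 hu.2
  exact isConj_iff.2 ⟨w, hw⟩

theorem orderOf_of_isConj {t x : G} (h : IsConj t x) : orderOf x = orderOf t := by
  obtain ⟨g, rfl⟩ := isConj_iff.1 h
  exact MulEquiv.orderOf_eq (MulAut.conj g) t

/-- The number of representations of an involution of `S` by two conjugates of `t`. -/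
theorem card_pairs {t u : G} (ht : t ∈ T.Inv) (hu : u ∈ T.Inv) :
    Nat.card {p : G × G // IsConj t p.1 ∧ IsConj t p.2 ∧ p.1 * p.2 = u} + 1 = Nat.card T.Inv := by
  classical
  haveI : Finite T.Inv := Subtype.finite
  have huA : u ∈ T.A := ⟨T.S_le_M hu.1, hu.2 ▸ dvd_rfl⟩
  have hmem : ∀ p : {p : G × G // IsConj t p.1 ∧ IsConj t p.2 ∧ p.1 * p.2 = u},
      p.1.1 ∈ T.Inv ∧ p.1.1 ≠ u := by
    intro p
    obtain ⟨h1, h2, h3⟩ := p.2
    have e1 : orderOf p.1.1 = 2 := (orderOf_of_isConj h1).trans ht.2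
    have e2 : orderOf p.1.2 = 2 := (orderOf_of_isConj h2).trans ht.2
    refine ⟨⟨(T.product_involutions huA e1 e2 h3).2.2.1, e1⟩, fun e => ?_⟩
    rw [e, mul_eq_left] at h3
    rw [h3, orderOf_one] at e2
    omega
  have huu : u * u = 1 := by rw [← sq, ← hu.2, pow_orderOf_eq_one]
  let e : {p : G × G // IsConj t p.1 ∧ IsConj t p.2 ∧ p.1 * p.2 = u} ≃
      {x : T.Inv // x ≠ ⟨u, hu⟩} :=
    { toFun := fun p => ⟨⟨p.1.1, (hmem p).1⟩, fun h => (hmem p).2 (congrArg Subtype.val h)⟩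
      invFun := fun x => ⟨((x.1 : G), (x.1 : G) * u), T.isConj_of_inv ht x.1.2, by
        have hxx : (x.1 : G) * x.1 = 1 := by rw [← sq, ← x.1.2.2, pow_orderOf_eq_one]
        refine ⟨T.isConj_of_inv ht ⟨mul_mem x.1.2.1 hu.1, orderOf_eq_prime ?_ ?_⟩, ?_⟩
        · rw [sq]
          calc (x.1 : G) * u * ((x.1 : G) * u) = (x.1 : G) * (u * x.1) * u := by group
            _ = (x.1 : G) * x.1 * (u * u) := by rw [T.comm u hu.1 _ x.1.2.1]; group
            _ = 1 := by rw [hxx, huu, one_mul]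
        · intro h
          refine x.2 (Subtype.ext ?_)
          exact mul_right_cancel (h.trans huu.symm)
        · rw [← mul_assoc, hxx, one_mul]⟩
      left_inv := fun p => by
        obtain ⟨⟨a, b⟩, h1, h2, h3⟩ := p
        refine Subtype.ext (Prod.ext rfl ?_)
        have h' : a * b = u := h3
        have haa : a * a = 1 := by
          rw [← sq, show (2 : ℕ) = orderOf a from ((orderOf_of_isConj h1).trans ht.2).symm,
            pow_orderOf_eq_one]
        show a * u = b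
        rw [← h', ← mul_assoc, haa, one_mul]
      right_inv := fun x => rfl }
  letI : Fintype T.Inv := Fintype.ofFinite _
  rw [Nat.card_congr e, Nat.card_eq_fintype_card, Nat.card_eq_fintype_card,
    Fintype.card_subtype_compl, Fintype.card_subtype_eq]
  have : 0 < Fintype.card T.Inv := Fintype.card_pos_iff.2 ⟨⟨u, hu⟩⟩
  omega

variable [Fintype G] [Fintype ↥T.M]

/-- Induction to the group. -/
noncomputable def tau (ψ : ↥T.M → ℂ) : G → ℂ := Cfsg.indFun T.M ψ

omit [Fintype ↥T.M] in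
theorem tau_one {ψ : ↥T.M → ℂ} (h : ψ 1 = 0) : T.tau ψ 1 = 0 :=
  CharInd.indFun_one_eq_zero T.M h

/-- Supported on the elements of even order. -/
def Supp (ψ : ↥T.M → ℂ) : Prop := ∀ x : ↥T.M, ¬ 2 ∣ orderOf x → ψ x = 0

omit [Fintype G] [Fintype ↥T.M] in
theorem supp_iff {ψ : ↥T.M → ℂ} (h : T.Supp ψ) : ∀ x : ↥T.M, (x : G) ∉ T.A → ψ x = 0 :=
  fun x hx => h x fun h2 => hx ⟨x.2, by rwa [Subgroup.orderOf_coe]⟩

theorem inner_tau {ψ θ : ↥T.M → ℂ} (hθ : Cfsg.IsClassFunction ↥T.M θ) (h : T.Supp ψ)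
    (h' : T.Supp θ) : Cfsg.classInner (T.tau ψ) (T.tau θ) = Cfsg.classInner ψ θ :=
  CharInd.classInner_indFun_ti T.M T.A T.tiA hθ (T.supp_iff h) (T.supp_iff h')
    (h 1 (by rw [orderOf_one]; norm_num))

omit [Fintype ↥T.M] in
theorem tau_apply {ψ : ↥T.M → ℂ} (hψ : Cfsg.IsClassFunction ↥T.M ψ) (h : T.Supp ψ) (x : ↥T.M)
    (hx : 2 ∣ orderOf x) : T.tau ψ (x : G) = ψ x :=
  CharInd.indFun_ti_apply T.M T.A T.tiA hψ (T.supp_iff h) x ⟨x.2, by rwa [Subgroup.orderOf_coe]⟩
    fun e => by rw [e, orderOf_one] at hx; omega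

end Cfsg.Agent.AGHall.TI
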