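import Cfsg.Agent.AGHall.Tools
import Cfsg.Agent.Cores.Fitting
import Cfsg.Agent.S0058
import Cfsg.Agent.S0056
import Cfsg.Agent.S0208

/-!
Structure of a group with abelian Sylow subgroups, an odd subgroup `C` of index `|S|` (`S` a Sylow
2-subgroup), trivial core and trivial centre, all of whose proper subgroups above `S` are solvable.
-/

set_option autoImplicit false

open Subgroup
open scoped Pointwise

namespace Cfsg.Agent.AGHall

variable (G : Type*) [Group G]

/-- The standing hypotheses. -/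
structure Base where
  S : Subgroup G
  C : Subgroup G
  ab : AbSylows G
  two : IsPGroup 2 S
  codd : Odd (Nat.card C)
  index : C.index = Nat.card S
  core : C.normalCore = ⊥
  centre : center G = ⊥
  ind : ∀ H : Subgroup G, S ≤ H → H ≠ ⊤ → Group.IsSolvable H
  ne : S ≠ ⊥
  nn : ¬ S.Normal

/-- The strongly embedded configuration. -/
structure TI where
  S : Subgroup G
  W : Subgroup G
  two : IsPGroup 2 S
  comm : ∀ x ∈ S, ∀ y ∈ S, x * y = y * x
  wN : W ≤ normalizer (S : Set G)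
  wodd : Odd (Nat.card W)
  decomp : ∀ x ∈ normalizer (S : Set G), ∃ p ∈ S, ∃ w ∈ W, x = p * w
  ti : ∀ g : G, g ∉ normalizer (S : Set G) → ∀ y ∈ S, g * y * g⁻¹ ∈ S → y = 1
  cent : ∀ y ∈ S, y ≠ 1 → centralizer ({y} : Set G) ≤ normalizer (S : Set G)
  self : centralizer (S : Set G) ≤ S
  trans : ∀ t ∈ S, ∀ u ∈ S, orderOf t = 2 → orderOf u = 2 → ∃ w ∈ W, w * t * w⁻¹ = u
  modEq : (normalizer (S : Set G)).index ≡ 1 [MOD Nat.card S]
  indexNe : (normalizer (S : Set G)).index ≠ 1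
  oddIndex : Odd S.index
  stabComm : ∀ t ∈ S, orderOf t = 2 → ∀ x ∈ W, ∀ y ∈ W, x * t = t * x → y * t = t * y →
    x * y = y * x

variable {G} [Finite G]

theorem odd_of_coprime_two {n : ℕ} (h : ¬ 2 ∣ n) : Odd n :=
  Nat.not_even_iff_odd.1 fun he => h he.two_dvd

theorem orderOf_two_pow_of_mem {S : Subgroup G} (h : IsPGroup 2 S) {y : G} (hy : y ∈ S) :
    ∃ k, orderOf y = 2 ^ k := by
  obtain ⟨k, hk⟩ := IsPGroup.iff_orderOf.1 h ⟨y, hy⟩
  exact ⟨k, by rw [← hk, Subgroup.orderOf_mk]⟩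

theorem exists_involution_pow {S : Subgroup G} (h : IsPGroup 2 S) {y : G} (hy : y ∈ S)
    (hy1 : y ≠ 1) : ∃ k : ℕ, orderOf (y ^ k) = 2 := by
  obtain ⟨i, hi⟩ := orderOf_two_pow_of_mem h hy
  have hi0 : i ≠ 0 := by
    rintro rfl
    exact hy1 (orderOf_eq_one_iff.1 (by rw [hi, pow_zero]))
  exact ⟨orderOf y / 2, orderOf_pow_orderOf_div (orderOf_pos y).ne' (hi ▸ dvd_pow_self 2 hi0)⟩

theorem eq_one_of_odd_of_two {S T : Subgroup G} (h : IsPGroup 2 S) (ho : Odd (Nat.card T)) {y : G}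
    (hy : y ∈ S) (hy' : y ∈ T) : y = 1 := by
  obtain ⟨k, hk⟩ := orderOf_two_pow_of_mem h hy
  have h1 : Odd (2 ^ k) := hk ▸ ho.of_dvd_nat (Subgroup.orderOf_dvd_natCard T hy')
  rcases Nat.eq_zero_or_pos k with rfl | hk0
  · exact orderOf_eq_one_iff.1 (by rw [hk, pow_zero])
  · exact absurd h1 (Nat.not_odd_iff_even.2 ((Nat.even_pow' hk0.ne').2 even_two))

namespace Base

variable (B : Base G)

theorem coprime : (Nat.card B.S).Coprime (Nat.card B.C) := by
  haveI : Fact (Nat.Prime 2) := ⟨Nat.prime_two⟩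
  obtain ⟨k, hk⟩ := B.two.exists_card_eq
  rw [hk]
  exact B.codd.coprime_two_left.pow_left k

theorem compl : IsComplement' B.S B.C :=
  isComplement'_of_coprime (by rw [← B.index, mul_comm, card_mul_index]) B.coprime

theorem exists_mul (g : G) : ∃ p ∈ B.S, ∃ c ∈ B.C, g = p * c := by
  obtain ⟨⟨p, c⟩, h, -⟩ := B.compl.existsUnique g
  exact ⟨p, p.2, c, c.2, h.symm⟩

theorem eq_one {y : G} (hy : y ∈ B.S) (hy' : y ∈ B.C) : y = 1 :=
  eq_one_of_odd_of_two B.two B.codd hy hy'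

theorem oddIndex : Odd B.S.index := by
  rw [B.compl.symm.index_eq_card]
  exact B.codd

/-- A subgroup of odd order normalized by `S` is trivial. -/
theorem eq_bot_of_odd {X : Subgroup G} (hX : Odd (Nat.card X))
    (hn : B.S ≤ normalizer (X : Set G)) : X = ⊥ := by
  set H := X ⊔ B.S with hH
  have hXn : ∀ h ∈ H, ∃ x ∈ X, ∃ p ∈ B.S, h = x * p := fun h hh => by
    have : h ∈ ((X : Set G) * (B.S : Set G)) := by
      rw [← coe_mul_of_right_le_normalizer_left X B.S hn]
      exact hh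
    obtain ⟨x, hx, p, hp, rfl⟩ := this
    exact ⟨x, hx, p, hp, rfl⟩
  haveI hXS : (X.subgroupOf H).Normal :=
    normal_subgroupOf_of_le_normalizer (sup_le le_normalizer hn)
  have hCX : H ⊓ B.C ≤ X := by
    intro c hc
    obtain ⟨x, hx, p, hp, rfl⟩ := hXn c hc.1
    have h1 : (⟨x * p, hc.1⟩ : H) ∈ X.subgroupOf H := by
      set f := QuotientGroup.mk' (X.subgroupOf H)
      rw [← QuotientGroup.eq_one_iff]
      have hxH : x ∈ H := mem_sup_left hx
      have hpH : p ∈ H := mem_sup_right hp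
      have e : f ⟨x * p, hc.1⟩ = f ⟨p, hpH⟩ := by
        rw [show (⟨x * p, hc.1⟩ : H) = ⟨x, hxH⟩ * ⟨p, hpH⟩ from rfl, map_mul,
          show f ⟨x, hxH⟩ = 1 from (QuotientGroup.eq_one_iff _).2 hx, one_mul]
      refine orderOf_eq_one_iff.1 (Nat.eq_one_of_dvd_coprimes B.coprime ?_ ?_)
      · show orderOf (f ⟨x * p, hc.1⟩) ∣ _
        rw [e]
        refine (orderOf_map_dvd f _).trans ?_
        rw [Subgroup.orderOf_mk]
        exact Subgroup.orderOf_dvd_natCard B.S hp
      · refine (orderOf_map_dvd f _).trans ?_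
        rw [Subgroup.orderOf_mk]
        exact Subgroup.orderOf_dvd_natCard B.C hc.2
    exact h1
  have hXH : X ≤ H := le_sup_left
  have hXC : X ≤ B.C := by
    intro x hx
    obtain ⟨p, hp, c, hc, hpc⟩ := B.exists_mul x
    have hcH : c ∈ H := by
      rw [eq_inv_mul_iff_mul_eq.2 hpc.symm]
      exact H.mul_mem (H.inv_mem (mem_sup_right hp)) (hXH hx)
    have hcX : c ∈ X := hCX ⟨hcH, hc⟩
    have hpX : p ∈ X := by
      rw [eq_mul_inv_iff_mul_eq.2 hpc.symm]
      exact X.mul_mem hx (X.inv_mem hcX)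
    rw [hpc, eq_one_of_odd_of_two B.two hX hp hpX, one_mul]
    exact hc
  rw [eq_bot_iff, ← B.core]
  intro x hx g
  obtain ⟨p, hp, c, hc, hpc⟩ := B.exists_mul g⁻¹
  have hg : g = c⁻¹ * p⁻¹ := by rw [← inv_inv g, hpc]; group
  have h1 : p⁻¹ * x * p ∈ B.C := by
    refine hXC ?_
    have := (mem_normalizer_iff.1 (hn (B.S.inv_mem hp)) x).1 hx
    simpa using this
  rw [hg]
  have := B.C.mul_mem (B.C.mul_mem (B.C.inv_mem hc) h1) hc
  simpa [mul_assoc] using this

theorem le_normalizer {H : Subgroup G} (hSH : B.S ≤ H) (hH : H ≠ ⊤) :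
    H ≤ normalizer (B.S : Set G) := by
  haveI : Fact (Nat.Prime 2) := ⟨Nat.prime_two⟩
  haveI := B.ind H hSH hH
  have hF2 : Cfsg.fittingSubgroup H = Cfsg.pCore 2 H := by
    refine le_antisymm ?_ Cores.pCore_le_fittingSubgroup
    rw [Cores.fittingSubgroup_eq_iSup_pCore]
    refine iSup_le fun r => ?_
    rcases eq_or_ne (r : ℕ) 2 with h2 | h2
    · rw [h2]
    haveI := Fact.mk r.2
    set X := (Cfsg.pCore (r : ℕ) H).map H.subtype with hXdef
    have hXodd : Odd (Nat.card X) := by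
      obtain ⟨k, hk⟩ := (Cores.pCore_isPGroup (p := (r : ℕ)) (G := H)).exists_card_eq
      rw [hXdef, card_map_of_injective H.subtype_injective, hk]
      exact (r.2.odd_of_ne_two h2).pow
    have hXn : B.S ≤ normalizer (X : Set G) := fun p hp => by
      have : (Cfsg.pCore (r : ℕ) H).Normal := inferInstance
      refine le_normalizer_map H.subtype ⟨⟨p, hSH hp⟩, ?_, rfl⟩
      rw [normalizer_eq_top]
      exact mem_top _
    have hbot := B.eq_bot_of_odd hXodd hXn
    rw [hXdef, map_eq_bot_iff_of_injective _ H.subtype_injective] at hbot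
    rw [hbot]
    exact bot_le
  set S' := B.S.subgroupOf H with hS'
  have hS'2 : IsPGroup 2 S' := B.two.comap_of_injective H.subtype H.subtype_injective
  have hmax : Cfsg.pCore 2 H ≤ S' := by
    have hodd : ¬ 2 ∣ S'.index := fun h => Nat.not_even_iff_odd.2 B.oddIndex (even_iff_two_dvd.2
      (h.trans (show B.S.relIndex H ∣ B.S.index from relIndex_dvd_index_of_le hSH)))
    exact Cores.pCore_le_sylow (hS'2.toSylow hodd)
  have hSc : S' ≤ centralizer (Cfsg.fittingSubgroup H : Set H) := fun x hx =>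
    mem_centralizer_iff.2 fun z hz => by
      rw [hF2] at hz
      exact Subtype.ext ((B.ab 2 Nat.prime_two B.S B.two z (hmax hz) x hx))
  have hEq : S' = Cfsg.pCore 2 H := le_antisymm
    (hF2 ▸ hSc.trans (Cores.centralizer_fittingSubgroup_le)) hmax
  haveI : S'.Normal := hEq ▸ inferInstance
  exact le_normalizer_of_normal_subgroupOf hSH

theorem cent {y : G} (hy : y ∈ B.S) (hy1 : y ≠ 1) :
    centralizer ({y} : Set G) ≤ normalizer (B.S : Set G) := by
  refine B.le_normalizer (fun x hx => mem_centralizer_singleton_iff.2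
    (B.ab 2 Nat.prime_two B.S B.two x hx y hy)) fun h => hy1 ?_
  have : y ∈ center G := mem_center_iff.2 fun g =>
    mem_centralizer_singleton_iff.1 (h ▸ mem_top g)
  rwa [B.centre, mem_bot] at this

theorem self : centralizer (B.S : Set G) ≤ B.S := by
  intro x hx
  obtain ⟨p, hp, c, hc, rfl⟩ := B.exists_mul x
  have hpc : p ∈ centralizer (B.S : Set G) := mem_centralizer_iff.2 fun z hz =>
    B.ab 2 Nat.prime_two B.S B.two z hz p hp
  have hcc : c ∈ B.C ⊓ centralizer (B.S : Set G) := ⟨hc, by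
    simpa using (centralizer (B.S : Set G)).mul_mem ((centralizer (B.S : Set G)).inv_mem hpc) hx⟩
  have hbot : B.C ⊓ centralizer (B.S : Set G) = ⊥ := B.eq_bot_of_odd
    (B.codd.of_dvd_nat (card_dvd_of_le inf_le_left)) fun z hz => by
      rw [mem_normalizer_iff_map_conj_eq]
      refine le_antisymm ?_ fun v hv => ⟨v, hv, ?_⟩
      · rintro _ ⟨v, hv, rfl⟩
        have : z * v * z⁻¹ = v := by rw [mem_centralizer_iff.1 hv.2 z hz, mul_inv_cancel_right]
        show z * v * z⁻¹ ∈ _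
        rw [this]; exact hv
      · show z * v * z⁻¹ = v
        rw [mem_centralizer_iff.1 hv.2 z hz, mul_inv_cancel_right]
  rw [hbot, mem_bot] at hcc
  rw [hcc, mul_one]
  exact hp

theorem mem_of_two_of_mem_normalizer {x : G} {k : ℕ} (hx : x ∈ normalizer (B.S : Set G))
    (ho : orderOf x = 2 ^ k) : x ∈ B.S := by
  haveI : Fact (Nat.Prime 2) := ⟨Nat.prime_two⟩
  have hX : IsPGroup 2 (zpowers x) := IsPGroup.of_card (n := k) (by rw [Nat.card_zpowers, ho])
  have hsup : IsPGroup 2 (zpowers x ⊔ B.S : Subgroup G) :=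
    hX.to_sup_of_normal_right' B.two (zpowers_le.2 hx)
  obtain ⟨j, hj⟩ := hsup.exists_card_eq
  have heq : B.S = zpowers x ⊔ B.S := by
    refine eq_of_le_of_card_ge le_sup_right ?_
    have h1 : Nat.card ↥(zpowers x ⊔ B.S) ∣ Nat.card B.S * B.S.index :=
      (card_mul_index B.S).symm ▸ card_subgroup_dvd_card _
    rw [hj] at h1 ⊢
    exact Nat.le_of_dvd Nat.card_pos ((Nat.Coprime.pow_left j B.oddIndex.coprime_two_left).dvd_of_dvd_mul_right h1)
  rw [heq]
  exact mem_sup_left (mem_zpowers x)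

theorem ti (g : G) (hg : g ∉ normalizer (B.S : Set G)) (y : G) (hy : y ∈ B.S)
    (hgy : g * y * g⁻¹ ∈ B.S) : y = 1 := by
  by_contra hy1
  apply hg
  have hgy1 : g * y * g⁻¹ ≠ 1 := fun h => hy1 (conj_eq_one_iff.1 h)
  rw [mem_normalizer_iff_map_conj_eq]
  refine eq_of_le_of_card_ge ?_ (card_map_of_injective (MulAut.conj g).injective).ge
  rintro _ ⟨x, hx, rfl⟩
  show g * x * g⁻¹ ∈ _
  obtain ⟨k, hk⟩ := orderOf_two_pow_of_mem B.two hx
  refine B.mem_of_two_of_mem_normalizer (k := k) (B.cent hgy hgy1 (mem_centralizer_singleton_iff.2 ?_))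
    (by rw [← hk]; exact MulEquiv.orderOf_eq (MulAut.conj g) x)
  calc g * x * g⁻¹ * (g * y * g⁻¹) = g * (x * y) * g⁻¹ := by group
    _ = g * (y * x) * g⁻¹ := by rw [B.ab 2 Nat.prime_two B.S B.two x hx y hy]
    _ = g * y * g⁻¹ * (g * x * g⁻¹) := by group

end Base

end Cfsg.Agent.AGHall
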