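import Cfsg.Agent.AGHall.Sigma

/-!
The strongly embedded configuration with a fixed involution and a fixed linear character.
-/

set_option autoImplicit false

open Subgroup
open scoped ComplexConjugate

namespace Cfsg.Agent.AGHall

variable {G : Type*} [Group G] [Finite G]

/-- The data: an involution `t` and a linear character `mu` fixed by the centralizer of `t`. -/
structure Cfg (T : TI G) where
  t : T.sp.S
  ht : orderOf t = 2
  hexp : ∀ u : T.sp.S, orderOf u = 2 → ∃ y : T.sp.S, y * y = u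
  two_le : 2 ≤ Nat.card {u : T.sp.S // orderOf u = 2}
  mu : T.sp.S →* ℂˣ
  mu_t : mu t ≠ 1
  mu_stab : T.sp.W ⊓ centralizer ({(t : ↥T.M)} : Set ↥T.M) ≤ T.sp.stab mu

namespace Cfg

variable {T : TI G} (K : Cfg T)

/-- The involutions. -/
abbrev I : Type _ := {u : T.sp.S // orderOf u = 2}

theorem sq_of_I (u : I (T := T)) : (u : T.sp.S) * u = 1 := by
  have := pow_orderOf_eq_one (u : T.sp.S)
  rwa [u.2, sq] at this

theorem orderOf_val {u : T.sp.S} (hu : orderOf u = 2) : orderOf ((u : ↥T.M) : G) = 2 :=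
  (Subgroup.orderOf_coe _).trans ((Subgroup.orderOf_coe u).trans hu)

theorem hom_inv_inv (f : T.sp.S →* ℂˣ) : f⁻¹⁻¹ = f := MonoidHom.ext fun s => by simp

theorem hom_inv_inj {f g : T.sp.S →* ℂˣ} : f⁻¹ = g⁻¹ ↔ f = g :=
  ⟨fun h => by rw [← hom_inv_inv f, h, hom_inv_inv], fun h => by rw [h]⟩

theorem trans_I {u v : T.sp.S} (hu : orderOf u = 2) (hv : orderOf v = 2) :
    ∃ w ∈ T.sp.W, w * (u : ↥T.M) * w⁻¹ = v := by
  obtain ⟨w, hw, h⟩ := T.trans _ u.2 _ v.2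
    (orderOf_val hu) (orderOf_val hv)
  exact ⟨⟨w, T.W_le_M hw⟩, hw, Subtype.ext h⟩

/-- The stabilizer of `t`. -/
def V : Subgroup ↥T.M := T.sp.W ⊓ centralizer ({(K.t : ↥T.M)} : Set ↥T.M)

theorem V_le_W : K.V ≤ T.sp.W := inf_le_left

theorem comm_of_fix {u : T.sp.S} (hu : orderOf u = 2) {U : Subgroup ↥T.M} (hU : U ≤ T.sp.W)
    (hfix : ∀ x ∈ U, x * u = u * x) (a b : U) : a * b = b * a := by
  apply Subtype.ext; apply Subtype.ext
  exact T.stabComm _ u.2 (orderOf_val hu)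
    _ (hU a.2) _ (hU b.2) (congrArg Subtype.val (hfix a a.2)) (congrArg Subtype.val (hfix b b.2))

theorem V_fix {x : ↥T.M} (hx : x ∈ K.V) : x * (K.t : ↥T.M) = K.t * x :=
  mem_centralizer_singleton_iff.1 hx.2

theorem V_comm (a b : K.V) : a * b = b * a :=
  comm_of_fix K.ht K.V_le_W (fun _ hx => K.V_fix hx) a b

/-- A nontrivial character's stabilizer fixes an involution. -/
theorem exists_fixed_inv {lam : T.sp.S →* ℂˣ} (hl : lam ≠ 1) :
    ∃ u : T.sp.S, orderOf u = 2 ∧ ∀ x ∈ T.sp.stab lam, x * u = u * x := by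
  obtain ⟨s, hs, hfix⟩ := T.sp.exists_fixed hl le_rfl
  obtain ⟨i, hi⟩ := IsPGroup.iff_orderOf.1 T.sp.two s
  have hi0 : i ≠ 0 := by
    rintro rfl
    exact hs (orderOf_eq_one_iff.1 (by rw [hi, pow_zero]))
  refine ⟨s ^ (orderOf s / 2),
    orderOf_pow_orderOf_div (orderOf_pos s).ne' (hi ▸ dvd_pow_self 2 hi0), fun x hx => ?_⟩
  rw [SubgroupClass.coe_pow]
  exact ((show Commute x (s : ↥T.M) from hfix x hx).pow_right _).eq

theorem stab_comm {lam : T.sp.S →* ℂˣ} (hl : lam ≠ 1) (a b : T.sp.stab lam) : a * b = b * a := by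
  obtain ⟨u, hu, hfix⟩ := exists_fixed_inv hl
  exact comm_of_fix hu (T.sp.stab_le lam) hfix a b

theorem conj_le_V {u : T.sp.S} {w : ↥T.M} (hw : w ∈ T.sp.W) (h : w * (u : ↥T.M) * w⁻¹ = K.t)
    {x : ↥T.M} (hx : x ∈ T.sp.W) (hxu : x * u = u * x) : w * x * w⁻¹ ∈ K.V := by
  refine ⟨T.sp.W.mul_mem (T.sp.W.mul_mem hw hx) (T.sp.W.inv_mem hw),
    mem_centralizer_singleton_iff.2 ?_⟩
  calc w * x * w⁻¹ * K.t = w * (x * u) * w⁻¹ := by rw [← h]; group
    _ = w * (u * x) * w⁻¹ := by rw [hxu]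
    _ = K.t * (w * x * w⁻¹) := by rw [← h]; group

theorem card_stab_le {lam : T.sp.S →* ℂˣ} (hl : lam ≠ 1) :
    Nat.card (T.sp.stab lam) ≤ Nat.card K.V := by
  obtain ⟨u, hu, hfix⟩ := exists_fixed_inv hl
  obtain ⟨w, hw, h⟩ := trans_I hu K.ht
  refine Nat.card_le_card_of_injective (fun x => ⟨w * x * w⁻¹,
    K.conj_le_V hw h (T.sp.stab_le lam x.2) (hfix x x.2)⟩) fun x y hxy => ?_
  exact Subtype.ext (mul_left_cancel (mul_right_cancel (congrArg Subtype.val hxy)))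

theorem stab_eq_V {lam : T.sp.S →* ℂˣ} (hl : lam ≠ 1) (h : K.V ≤ T.sp.stab lam) :
    T.sp.stab lam = K.V := (eq_of_le_of_card_ge h (K.card_stab_le hl)).symm

theorem twist_inv (w : ↥T.M) (lam : T.sp.S →* ℂˣ) :
    T.sp.twist w lam⁻¹ = (T.sp.twist w lam)⁻¹ := by
  ext s; simp [Split.twist]

theorem stab_inv (lam : T.sp.S →* ℂˣ) : T.sp.stab lam⁻¹ = T.sp.stab lam := by
  ext x
  show (x ∈ T.sp.W ∧ T.sp.twist x lam⁻¹ = lam⁻¹) ↔ (x ∈ T.sp.W ∧ T.sp.twist x lam = lam)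
  rw [twist_inv, hom_inv_inj]

/-- The three base characters. -/
noncomputable def lam : Fin 3 → (T.sp.S →* ℂˣ) := ![K.mu * K.mu, K.mu, K.mu⁻¹]

theorem exists_y : ∃ y : T.sp.S, y * y = K.t := K.hexp _ K.ht

theorem mu_sq_ne : K.mu * K.mu ≠ 1 := by
  intro h
  obtain ⟨y, hy⟩ := K.exists_y
  apply K.mu_t
  rw [← hy, map_mul, ← MonoidHom.mul_apply, h, MonoidHom.one_apply]

theorem lam_ne_one (i : Fin 3) : K.lam i ≠ 1 := by
  fin_cases i
  · exact K.mu_sq_ne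
  · exact fun h => K.mu_t (DFunLike.congr_fun h K.t)
  · intro h
    have h' := DFunLike.congr_fun h K.t
    change (K.mu K.t)⁻¹ = 1 at h'
    exact K.mu_t (inv_eq_one.1 h')

theorem stab_lam (i : Fin 3) : T.sp.stab (K.lam i) = K.V := by
  refine K.stab_eq_V (K.lam_ne_one i) ?_
  have h : K.V ≤ T.sp.stab K.mu := K.mu_stab
  fin_cases i
  · intro x hx
    refine ⟨K.V_le_W hx, ?_⟩
    have := (h hx).2
    show T.sp.twist x (K.mu * K.mu) = K.mu * K.mu
    conv_rhs => rw [← this]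
    ext s; simp [Split.twist]
  · exact h
  · show K.V ≤ T.sp.stab K.mu⁻¹
    rw [stab_inv]; exact h

theorem V_le_stab (i : Fin 3) : K.V ≤ T.sp.stab (K.lam i) := (K.stab_lam i).ge

/-- Nontrivial on some involution. -/
def Full (lam : T.sp.S →* ℂˣ) : Prop := ∃ u : T.sp.S, orderOf u = 2 ∧ lam u ≠ 1

theorem Full.twist {lam : T.sp.S →* ℂˣ} (h : Full lam) {w : ↥T.M} : Full (T.sp.twist w lam) := by
  obtain ⟨u, hu, hne⟩ := h
  refine ⟨T.sp.act w u, ?_, ?_⟩
  · rw [← Subgroup.orderOf_coe, ← hu, ← Subgroup.orderOf_coe u]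
    exact MulEquiv.orderOf_eq (MulAut.conj w) (u : ↥T.M)
  · have : T.sp.twist w lam (T.sp.act w u) = lam u := by
      rw [T.sp.twist_apply]; congr 1; apply Subtype.ext; simp [Split.act, mul_assoc]
    rwa [this]

theorem Full.ne_one {lam : T.sp.S →* ℂˣ} (h : Full lam) : lam ≠ 1 := by
  rintro rfl
  obtain ⟨u, -, hne⟩ := h
  exact hne rfl

theorem Full.inv {lam : T.sp.S →* ℂˣ} (h : Full lam) : Full lam⁻¹ := by
  obtain ⟨u, hu, hne⟩ := h
  exact ⟨u, hu, fun e => hne (inv_eq_one.1 e)⟩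

include K in
theorem Full.sq_ne {lam : T.sp.S →* ℂˣ} (h : Full lam) : lam⁻¹ ≠ lam := by
  obtain ⟨u, hu, hne⟩ := h
  obtain ⟨y, hy⟩ := K.hexp u hu
  intro e
  apply hne
  have : lam y⁻¹ = lam y := by rw [map_inv]; exact DFunLike.congr_fun e y
  rw [← hy, map_mul]
  nth_rewrite 1 [← this]
  rw [← map_mul, inv_mul_cancel, map_one]

theorem lam0_not_full : ¬ Full (K.lam 0) := by
  rintro ⟨u, hu, hne⟩
  apply hne
  show (K.mu * K.mu) u = 1
  rw [MonoidHom.mul_apply, ← map_mul, sq_of_I ⟨u, hu⟩, map_one]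

theorem lam1_full : Full (K.lam 1) := ⟨K.t, K.ht, K.mu_t⟩

theorem lam2_full : Full (K.lam 2) := K.lam1_full.inv

include K in
theorem twist_ne_inv {lam : T.sp.S →* ℂˣ} (h : Full lam) {w : ↥T.M} (hw : w ∈ T.sp.W) :
    T.sp.twist w lam ≠ lam⁻¹ := by
  intro e
  have h2 : T.sp.twist (w * w) lam = lam := by
    rw [T.sp.twist_mul, e, twist_inv, e, hom_inv_inv]
  have hstab : w * w ∈ T.sp.stab lam := ⟨T.sp.W.mul_mem hw hw, h2⟩
  obtain ⟨k, hk⟩ := (T.sp.wodd.of_dvd_nat (Subgroup.orderOf_dvd_natCard T.sp.W hw))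
  have hww : w = (w * w) ^ (k + 1) := by
    rw [← sq, ← pow_mul, show 2 * (k + 1) = orderOf w + 1 by omega, pow_succ, pow_orderOf_eq_one,
      one_mul]
  have : w ∈ T.sp.stab lam := hww ▸ pow_mem hstab (k + 1)
  exact Full.sq_ne K h (e ▸ this.2)

theorem lam_not_conj {i j : Fin 3} (hij : i ≠ j) {w : ↥T.M} (hw : w ∈ T.sp.W) :
    T.sp.twist w (K.lam j) ≠ K.lam i := by
  intro e
  have h1 : K.lam 1 = K.mu := rfl
  have h2 : K.lam 2 = (K.lam 1)⁻¹ := rfl
  have hback : ∀ a b : T.sp.S →* ℂˣ, T.sp.twist w a = b → Full b → Full a := fun a b e' hb => by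
    have := (e' ▸ hb : Full (T.sp.twist w a)).twist (w := w⁻¹)
    rwa [← T.sp.twist_mul, inv_mul_cancel, T.sp.twist_one] at this
  fin_cases i <;> fin_cases j
  · exact hij rfl
  · exact K.lam0_not_full ((show _ = K.lam 0 from e) ▸ K.lam1_full.twist)
  · exact K.lam0_not_full ((show _ = K.lam 0 from e) ▸ K.lam2_full.twist)
  · exact K.lam0_not_full (hback _ _ (show _ = K.lam 1 from e) K.lam1_full)
  · exact hij rfl
  · exact twist_ne_inv K K.lam2_full hw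
      ((show _ = K.lam 1 from e).trans (hom_inv_inv K.mu).symm)
  · exact K.lam0_not_full (hback _ _ (show _ = K.lam 2 from e) K.lam2_full)
  · exact twist_ne_inv K K.lam1_full hw (show _ = (K.lam 1)⁻¹ from e)
  · exact hij rfl

theorem card_W [Fintype T.sp.W] [Fintype (I (T := T))] (f : T.sp.S → ℂ) :
    ∑ w : T.sp.W, f (T.sp.act (w : ↥T.M)⁻¹ K.t) =
      (Nat.card K.V : ℂ) * ∑ u : I (T := T), f u := by
  classical
  set π : T.sp.W → I (T := T) := fun w => ⟨T.sp.act (w : ↥T.M)⁻¹ K.t, by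
    rw [← Subgroup.orderOf_coe, ← K.ht, ← Subgroup.orderOf_coe K.t]
    simpa [Split.act] using MulEquiv.orderOf_eq (MulAut.conj (w : ↥T.M)⁻¹) (K.t : ↥T.M)⟩ with hπ
  rw [← Finset.sum_fiberwise Finset.univ π, Finset.mul_sum]
  refine Finset.sum_congr rfl fun u _ => ?_
  rw [Finset.sum_congr rfl (g := fun _ => f u) fun w hw => ?_, Finset.sum_const, nsmul_eq_mul]
  · congr 2
    rw [← Fintype.card_subtype, ← Nat.card_eq_fintype_card]
    obtain ⟨w₀, hw₀, h₀⟩ := trans_I u.2 K.ht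
    refine Nat.card_congr
      { toFun := fun w => ⟨(w.1 : ↥T.M) * w₀⁻¹, ?_⟩
        invFun := fun v => ⟨⟨(v : ↥T.M) * w₀, T.sp.W.mul_mem (K.V_le_W v.2) hw₀⟩, ?_⟩
        left_inv := fun w => Subtype.ext (Subtype.ext (by simp))
        right_inv := fun v => Subtype.ext (by simp) }
    · have h1 : (w.1 : ↥T.M)⁻¹ * K.t * w.1 = (u : T.sp.S) := by
        have := congrArg (fun z : I (T := T) => ((z : T.sp.S) : ↥T.M)) w.2
        simpa [hπ, Split.act] using this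
      refine ⟨T.sp.W.mul_mem w.1.2 (T.sp.W.inv_mem hw₀), mem_centralizer_singleton_iff.2 ?_⟩
      have h2 : (w.1 : ↥T.M) * ((w.1 : ↥T.M)⁻¹ * K.t * w.1) * w₀⁻¹ =
          (w.1 : ↥T.M) * (w₀⁻¹ * K.t * w₀) * w₀⁻¹ := by
        rw [h1, ← h₀]; group
      calc (w.1 : ↥T.M) * w₀⁻¹ * K.t = (w.1 : ↥T.M) * (w₀⁻¹ * K.t * w₀) * w₀⁻¹ := by group
        _ = (w.1 : ↥T.M) * ((w.1 : ↥T.M)⁻¹ * K.t * w.1) * w₀⁻¹ := h2.symm
        _ = _ := by group
    · apply Subtype.ext; apply Subtype.ext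
      show ((v : ↥T.M) * w₀)⁻¹ * K.t * ((v : ↥T.M) * w₀)⁻¹⁻¹ = (u : T.sp.S)
      rw [inv_inv]
      calc ((v : ↥T.M) * w₀)⁻¹ * K.t * ((v : ↥T.M) * w₀)
          = w₀⁻¹ * ((v : ↥T.M)⁻¹ * (K.t * v)) * w₀ := by group
        _ = w₀⁻¹ * K.t * w₀ := by rw [← K.V_fix v.2]; group
        _ = (u : T.sp.S) := by rw [← h₀]; group
  · rw [← (Finset.mem_filter.1 hw).2]

theorem card_V_mul : Nat.card T.sp.W = Nat.card K.V * Nat.card (I (T := T)) := by
  classical
  letI : Fintype T.sp.W := Fintype.ofFinite _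
  letI : Fintype (I (T := T)) := Fintype.ofFinite _
  have h := K.card_W (fun _ => (1 : ℂ))
  simp only [Finset.sum_const, Finset.card_univ, nsmul_eq_mul, mul_one,
    ← Nat.card_eq_fintype_card] at h
  exact_mod_cast h

/-- The value of an induced character at `t`. -/
theorem zeta_t [Fintype ↥T.M] [Fintype T.sp.W] [Fintype (I (T := T))] (lam : T.sp.S →* ℂˣ)
    (eta : K.V →* ℂˣ) :
    T.sp.zeta lam K.V eta (K.t : ↥T.M) = ∑ u : I (T := T), (lam u : ℂ) := by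
  rw [T.sp.zeta_apply_mem lam K.V eta K.t]
  have := K.card_W (fun s => (lam s : ℂ))
  simp only [Split.twist, MonoidHom.comp_apply]
  rw [this, inv_mul_cancel_left₀ (Nat.cast_ne_zero.2 Nat.card_pos.ne')]

theorem sum_I_add_one [Fintype T.sp.S] [Fintype (I (T := T))] {u₀ : T.sp.S} (hu : orderOf u₀ = 2)
    {lam : T.sp.S →* ℂˣ} (h : lam u₀ ≠ 1) : ∑ u : I (T := T), (lam u : ℂ) = -1 := by
  classical
  set Q := Finset.univ.filter (fun s : T.sp.S => s * s = 1) with hQ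
  have hmove : ∀ s, s * s = 1 → (u₀ * s) * (u₀ * s) = 1 := fun s hs => by
    calc u₀ * s * (u₀ * s) = u₀ * (s * u₀) * s := by group
      _ = (u₀ * u₀) * (s * s) := by rw [T.sp.S_comm s u₀]; group
      _ = 1 := by rw [hs, sq_of_I ⟨u₀, hu⟩, one_mul]
  have hzero : ∑ s ∈ Q, (lam s : ℂ) = 0 := by
    have e : (lam u₀ : ℂ) * ∑ s ∈ Q, (lam s : ℂ) = ∑ s ∈ Q, (lam s : ℂ) := by
      rw [Finset.mul_sum]
      refine Finset.sum_bij' (fun s _ => u₀ * s) (fun s _ => u₀ * s) ?_ ?_ ?_ ?_ ?_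
      · intro s hs; simp only [hQ, Finset.mem_filter, Finset.mem_univ, true_and] at hs ⊢; exact hmove s hs
      · intro s hs; simp only [hQ, Finset.mem_filter, Finset.mem_univ, true_and] at hs ⊢; exact hmove s hs
      · intro s _; rw [← mul_assoc, sq_of_I ⟨u₀, hu⟩, one_mul]
      · intro s _; rw [← mul_assoc, sq_of_I ⟨u₀, hu⟩, one_mul]
      · intro s _; rw [map_mul, Units.val_mul]
    by_contra hs
    exact h (Units.ext (mul_right_cancel₀ hs (e.trans (one_mul _).symm)))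
  have h1 : (1 : T.sp.S) ∈ Q := by simp [hQ]
  rw [← Finset.add_sum_erase _ _ h1, map_one, Units.val_one] at hzero
  have : ∑ u : I (T := T), (lam u : ℂ) = ∑ s ∈ Q.erase 1, (lam s : ℂ) := by
    symm
    refine Finset.sum_subtype _ (fun s => ?_) _
    simp only [hQ, Finset.mem_erase, Finset.mem_filter, Finset.mem_univ, true_and]
    constructor
    · rintro ⟨h1, h2⟩
      exact orderOf_eq_prime (by rw [sq]; exact h2) h1
    · intro h'
      exact ⟨fun e => by rw [e, orderOf_one] at h'; omega, sq_of_I ⟨s, h'⟩⟩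
  rw [this]
  linear_combination hzero

theorem zeta_t_zero [Fintype ↥T.M] [Fintype (I (T := T))] (eta : K.V →* ℂˣ) :
    T.sp.zeta (K.lam 0) K.V eta (K.t : ↥T.M) = (Nat.card (I (T := T)) : ℂ) := by
  classical
  letI : Fintype T.sp.W := Fintype.ofFinite _
  rw [K.zeta_t]
  have : ∀ u : I (T := T), ((K.lam 0 u : ℂˣ) : ℂ) = 1 := fun u => by
    by_contra h
    exact K.lam0_not_full ⟨u, u.2, fun e => h (by rw [e, Units.val_one])⟩
  simp [this, Nat.card_eq_fintype_card]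

theorem zeta_t_full [Fintype ↥T.M] [Fintype (I (T := T))] {j : Fin 3} (hj : j ≠ 0)
    (eta : K.V →* ℂˣ) : T.sp.zeta (K.lam j) K.V eta (K.t : ↥T.M) = -1 := by
  classical
  letI : Fintype T.sp.W := Fintype.ofFinite _
  letI : Fintype T.sp.S := Fintype.ofFinite _
  rw [K.zeta_t]
  refine sum_I_add_one K.ht ?_
  fin_cases j
  · exact absurd rfl hj
  · exact K.mu_t
  · exact fun e => K.mu_t (inv_eq_one.1 e)

end Cfg

end Cfsg.Agent.AGHall
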