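import Cfsg.Agent.AGHall.TICfg
import Cfsg.Agent.AGHall.Coh

/-!
Coherence for the strongly embedded configuration.
-/

set_option autoImplicit false

open Subgroup
open scoped ComplexConjugate

namespace Cfsg.Agent.AGHall.Cfg

variable {G : Type*} [Group G] [Fintype G] {T : TI G} (K : Cfg T) [Fintype ↥T.M]

theorem odd_of_not_two_dvd {x : ↥T.M} (hx : ¬ 2 ∣ orderOf x) : Odd (orderOf x) :=
  Nat.not_even_iff_odd.1 fun he => hx he.two_dvd

theorem zeta_odd_eq {U : Subgroup ↥T.M} (eta : U →* ℂˣ) {l l' : T.sp.S →* ℂˣ}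
    (hl : U ≤ T.sp.stab l) (hl' : U ≤ T.sp.stab l') {y : ↥T.M} (hy : Odd (orderOf y)) :
    T.sp.zeta l U eta y = T.sp.zeta l' U eta y := by
  classical
  have hzo : ∀ x : ↥T.M, Odd (orderOf (x⁻¹ * y * x)) := fun x => by
    have := MulEquiv.orderOf_eq (MulAut.conj x⁻¹) y
    simp only [MulAut.conj_apply, inv_inv] at this
    rwa [this]
  simp only [Split.zeta]
  congr 1
  refine Finset.sum_congr rfl fun x _ => ?_
  rw [T.sp.F_odd l U eta hl (hzo x), T.sp.F_odd l' U eta hl' (hzo x)]

/-- The basic differences. -/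
noncomputable def beta (eta : K.V →* ℂˣ) (j : Fin 3) : ↥T.M → ℂ :=
  T.sp.zeta (K.lam 0) K.V eta - T.sp.zeta (K.lam j) K.V eta

theorem zeta_char (eta : K.V →* ℂˣ) (i : Fin 3) :
    Cfsg.IsCharacter ↥T.M (T.sp.zeta (K.lam i) K.V eta) :=
  T.sp.isCharacter_zeta _ _ _ (K.V_le_stab i)

theorem beta_gen (eta : K.V →* ℂˣ) (j : Fin 3) :
    Cfsg.IsGeneralizedCharacter ↥T.M (K.beta eta j) :=
  Char.isGeneralizedCharacter_sub (Char.isGeneralizedCharacter_of_isCharacter (K.zeta_char eta 0))
    (Char.isGeneralizedCharacter_of_isCharacter (K.zeta_char eta j))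

theorem beta_class (eta : K.V →* ℂˣ) (j : Fin 3) : Cfsg.IsClassFunction ↥T.M (K.beta eta j) :=
  Char.isGeneralizedCharacter_isClassFunction (K.beta_gen eta j)

theorem beta_supp (eta : K.V →* ℂˣ) (j : Fin 3) : T.Supp (K.beta eta j) := fun x hx => by
  rw [beta, Pi.sub_apply, zeta_odd_eq eta (K.V_le_stab 0) (K.V_le_stab j) (odd_of_not_two_dvd hx),
    sub_self]

open Classical in
theorem inner_zeta_lam (eta eta' : K.V →* ℂˣ) (i j : Fin 3) :
    Cfsg.classInner (T.sp.zeta (K.lam i) K.V eta) (T.sp.zeta (K.lam j) K.V eta') =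
      if i = j ∧ eta = eta' then 1 else 0 := by
  by_cases hij : i = j
  · subst hij
    rw [T.sp.inner_same (K.lam i) K.V eta (K.stab_lam i).symm K.V_comm eta']
    simp
  · rw [T.sp.inner_of_not_conj (K.lam i) K.V eta (K.V_le_stab i) eta' (K.V_le_stab j)
      fun w hw => K.lam_not_conj hij hw, if_neg fun h => hij h.1]

open Classical in
theorem inner_beta (eta eta' : K.V →* ℂˣ) {i j : Fin 3} (hi : i ≠ 0) (hj : j ≠ 0) :
    Cfsg.classInner (K.beta eta i) (K.beta eta' j) =
      if eta = eta' then (if i = j then 2 else 1) else 0 := by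
  simp only [beta, Char.classInner_sub_left, Char.classInner_sub_right, K.inner_zeta_lam]
  rcases eq_or_ne i j with rfl | hij
  · by_cases he : eta = eta' <;> simp [he, hi, Ne.symm hi] <;> norm_num
  · by_cases he : eta = eta' <;> simp [he, hi, Ne.symm hj, hij]

theorem exists_triple (eta : K.V →* ℂˣ) :
    ∃ (ε : ℤ) (x : Fin 3 → Cfsg.IrrCharacter G), (ε = 1 ∨ ε = -1) ∧ Function.Injective x ∧
      T.tau (K.beta eta 1) = (ε : ℂ) • ((x 0 : G → ℂ) - (x 1 : G → ℂ)) ∧
      T.tau (K.beta eta 2) = (ε : ℂ) • ((x 0 : G → ℂ) - (x 2 : G → ℂ)) ∧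
      ∀ i, (x i : G → ℂ) 1 = (x 0 : G → ℂ) 1 := by
  classical
  have h1 : ∀ j, T.tau (K.beta eta j) 1 = 0 := fun j =>
    T.tau_one (K.beta_supp eta j 1 (by rw [orderOf_one]; norm_num))
  refine triple_of_inner_one (OddChar.indFun_isGeneralized T.M (K.beta_gen eta 1))
    (OddChar.indFun_isGeneralized T.M (K.beta_gen eta 2)) (h1 1) (h1 2) ?_ ?_ ?_ <;>
  rw [T.inner_tau (K.beta_class eta _) (K.beta_supp eta _) (K.beta_supp eta _),
    K.inner_beta eta eta (by decide) (by decide)] <;> simp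

/-- The sign. -/
noncomputable def eps (eta : K.V →* ℂˣ) : ℤ := (K.exists_triple eta).choose

/-- The exceptional characters. -/
noncomputable def ex (eta : K.V →* ℂˣ) : Fin 3 → Cfsg.IrrCharacter G :=
  (K.exists_triple eta).choose_spec.choose

theorem eps_spec (eta : K.V →* ℂˣ) : K.eps eta = 1 ∨ K.eps eta = -1 :=
  (K.exists_triple eta).choose_spec.choose_spec.1

theorem ex_inj_one (eta : K.V →* ℂˣ) : Function.Injective (K.ex eta) :=
  (K.exists_triple eta).choose_spec.choose_spec.2.1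

theorem tau_beta (eta : K.V →* ℂˣ) {j : Fin 3} (hj : j ≠ 0) :
    T.tau (K.beta eta j) = (K.eps eta : ℂ) • ((K.ex eta 0 : G → ℂ) - (K.ex eta j : G → ℂ)) := by
  fin_cases j
  · exact absurd rfl hj
  · exact (K.exists_triple eta).choose_spec.choose_spec.2.2.1
  · exact (K.exists_triple eta).choose_spec.choose_spec.2.2.2.1

theorem ex_deg (eta : K.V →* ℂˣ) (i : Fin 3) :
    (K.ex eta i : G → ℂ) 1 = (K.ex eta 0 : G → ℂ) 1 :=
  (K.exists_triple eta).choose_spec.choose_spec.2.2.2.2 i

theorem eps_ne (eta : K.V →* ℂˣ) : (K.eps eta : ℂ) ≠ 0 := by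
  rcases K.eps_spec eta with h | h <;> simp [h]

theorem ex_inj : Function.Injective fun p : (K.V →* ℂˣ) × Fin 3 => K.ex p.1 p.2 := by
  classical
  rintro ⟨e, i⟩ ⟨e', i'⟩ h
  by_cases he : e = e'
  · subst he
    exact congrArg (Prod.mk e) (K.ex_inj_one e h)
  exfalso
  have hd : ∀ a b : Fin 3, a ≠ 0 → b ≠ 0 →
      K.ex e 0 ≠ K.ex e' 0 ∧ K.ex e 0 ≠ K.ex e' b ∧ K.ex e a ≠ K.ex e' 0 ∧ K.ex e a ≠ K.ex e' b := by
    intro a b ha hb
    refine disjoint_of_inner_zero (fun hh => ha (K.ex_inj_one e hh).symm)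
      (fun hh => hb (K.ex_inj_one e' hh).symm) ?_
    have := T.inner_tau (K.beta_class e' b) (K.beta_supp e a) (K.beta_supp e' b)
    rw [K.inner_beta e e' ha hb, if_neg he, K.tau_beta e ha, K.tau_beta e' hb,
      Char.classInner_smul_left, Char.classInner_smul_right] at this
    simpa [K.eps_ne] using this
  have h' : K.ex e i = K.ex e' i' := h
  have h1 := hd 1 1 (by decide) (by decide)
  have h2 := hd 2 2 (by decide) (by decide)
  have h3 := hd 1 2 (by decide) (by decide)
  have h4 := hd 2 1 (by decide) (by decide)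
  fin_cases i <;> fin_cases i'
  · exact h1.1 h'
  · exact h1.2.1 h'
  · exact h2.2.1 h'
  · exact h1.2.2.1 h'
  · exact h1.2.2.2 h'
  · exact h3.2.2.2 h'
  · exact h2.2.2.1 h'
  · exact h4.2.2.2 h'
  · exact h2.2.2.2 h'

/-- The multiplicity of a linear character of `S`. -/
noncomputable def mult [Fintype T.sp.S] (θ : G → ℂ) (l : T.sp.S →* ℂˣ) : ℂ :=
  Cfsg.classInner (fun s : T.sp.S => θ ((s : ↥T.M) : G)) (fun s : T.sp.S => (l s : ℂ))

theorem mult_twist [Fintype T.sp.S] {θ : G → ℂ} (hθ : Cfsg.IsClassFunction G θ) (w : ↥T.M)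
    (l : T.sp.S →* ℂˣ) : mult θ (T.sp.twist w l) = mult θ l := by
  simp only [mult, Cfsg.classInner]
  congr 1
  refine Fintype.sum_equiv
    { toFun := T.sp.act w⁻¹
      invFun := T.sp.act w
      left_inv := fun s => Subtype.ext (by simp [Split.act, mul_assoc])
      right_inv := fun s => Subtype.ext (by simp [Split.act, mul_assoc]) } _ _ fun s => ?_
  simp only [Equiv.coe_fn_mk, Split.twist, MonoidHom.comp_apply]
  congr 1
  have : (((T.sp.act w⁻¹ s : T.sp.S) : ↥T.M) : G) = (w : G)⁻¹ * ((s : ↥T.M) : G) * (w : G)⁻¹⁻¹ := by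
    simp [Split.act]
  rw [this, hθ]

variable {U : Subgroup ↥T.M}

open Classical in
/-- The comparison with the base family. -/
noncomputable def B [Fintype (K.V →* ℂˣ)] (hUV : U ≤ K.V) (l : T.sp.S →* ℂˣ) (e : U →* ℂˣ) :
    ↥T.M → ℂ :=
  T.sp.zeta l U e - ∑ eta ∈ Finset.univ.filter (Ext hUV e), T.sp.zeta (K.lam 0) K.V eta

section

variable [Fintype (K.V →* ℂˣ)] (hUV : U ≤ K.V) {l : T.sp.S →* ℂˣ} (hl : U ≤ T.sp.stab l)
  (e : U →* ℂˣ)

include hl

theorem B_gen : Cfsg.IsGeneralizedCharacter ↥T.M (K.B hUV l e) := by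
  classical
  exact Char.isGeneralizedCharacter_sub
    (Char.isGeneralizedCharacter_of_isCharacter (T.sp.isCharacter_zeta l U e hl))
    (Char.isGeneralizedCharacter_sum _ fun eta _ =>
      Char.isGeneralizedCharacter_of_isCharacter (K.zeta_char eta 0))

theorem B_supp : T.Supp (K.B hUV l e) := fun x hx => by
  classical
  rw [B, Pi.sub_apply, Finset.sum_apply,
    T.sp.sum_zeta_odd l U e hUV K.V_comm hl (K.V_le_stab 0) (odd_of_not_two_dvd hx), sub_self]

omit hl in
open Classical in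
theorem tau_eq_expand {θ : ↥T.M → ℂ} (hθ : Cfsg.IsGeneralizedCharacter ↥T.M θ) :
    ∃ c : Cfsg.IrrCharacter G → ℤ, ∀ χ : Cfsg.IrrCharacter G, Cfsg.classInner (T.tau θ) (χ : G → ℂ) = c χ :=
  ⟨fun χ => (Char.isGeneralizedCharacter_classInner_int
      (OddChar.indFun_isGeneralized T.M hθ) χ).choose,
    fun χ => (Char.isGeneralizedCharacter_classInner_int
      (OddChar.indFun_isGeneralized T.M hθ) χ).choose_spec⟩

variable (hle : U = T.sp.stab l) (hcU : ∀ a b : U, a * b = b * a)
  (hnc : ∀ j : Fin 3, ∀ w ∈ T.sp.W, T.sp.twist w (K.lam j) ≠ l)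

include hnc in
theorem inner_zeta_base (eta : K.V →* ℂˣ) (j : Fin 3) :
    Cfsg.classInner (T.sp.zeta l U e) (T.sp.zeta (K.lam j) K.V eta) = 0 :=
  T.sp.inner_of_not_conj l U e hl eta (K.V_le_stab j) (hnc j)

include hnc in
open Classical in
theorem inner_B_beta (eta : K.V →* ℂˣ) {j : Fin 3} (hj : j ≠ 0) :
    Cfsg.classInner (K.B hUV l e) (K.beta eta j) = if Ext hUV e eta then -1 else 0 := by
  simp only [B, beta, Char.classInner_sub_left, Char.classInner_sub_right,
    Char.classInner_sum_left, K.inner_zeta_base hl e hnc, K.inner_zeta_lam]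
  simp only [Ne.symm hj, false_and, if_false, true_and, Finset.sum_ite_eq', Finset.mem_filter,
    Finset.mem_univ, Finset.sum_const_zero, sub_zero]
  split_ifs <;> simp

include hnc in
open Classical in
theorem inner_B_B {l' : T.sp.S →* ℂˣ} (hl' : U ≤ T.sp.stab l')
    (hnc' : ∀ j : Fin 3, ∀ w ∈ T.sp.W, T.sp.twist w (K.lam j) ≠ l') :
    Cfsg.classInner (K.B hUV l e) (K.B hUV l' e) =
      Cfsg.classInner (T.sp.zeta l U e) (T.sp.zeta l' U e) +
        ((Finset.univ.filter (Ext hUV e)).card : ℂ) := by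
  have h0 : ∀ eta, Cfsg.classInner (T.sp.zeta (K.lam 0) K.V eta) (T.sp.zeta l' U e) = 0 := fun eta => by
    rw [← Char.classInner_conj, K.inner_zeta_base hl' e hnc', map_zero]
  simp only [B, Char.classInner_sub_left, Char.classInner_sub_right, Char.classInner_sum_left,
    Char.classInner_sum_right, K.inner_zeta_base hl e hnc, h0, K.inner_zeta_lam, true_and,
    Finset.sum_const_zero, sub_zero, zero_sub, Finset.sum_neg_distrib, sub_neg_eq_add]
  rw [Finset.sum_congr rfl (g := fun _ => (1 : ℂ)) fun eta heta => by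
    rw [Finset.sum_ite_eq', if_pos heta]]
  simp

end

theorem excess {ε : ℤ} (hε : ε = 1 ∨ ε = -1) (z : ℤ) :
    0 ≤ 3 * (z * z) + 4 * (ε * z) + 1 ∧
      (3 * (z * z) + 4 * (ε * z) + 1 ≤ 1 → z = -ε ∨ z = 0) ∧
      (z = 0 → 3 * (z * z) + 4 * (ε * z) + 1 = 1) := by
  have hw : ∀ w : ℤ, 0 ≤ 3 * (w * w) + 4 * w + 1 ∧
      (3 * (w * w) + 4 * w + 1 ≤ 1 → w = -1 ∨ w = 0) := by
    intro w
    rcases (show w ≤ -2 ∨ w = -1 ∨ w = 0 ∨ 1 ≤ w by omega) with h | rfl | rfl | h
    · exact ⟨by nlinarith, fun h' => absurd h' (by nlinarith)⟩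
    · norm_num
    · norm_num
    · exact ⟨by nlinarith, fun h' => absurd h' (by nlinarith)⟩
  refine ⟨?_, ?_, fun h => by subst h; ring⟩
  · rcases hε with rfl | rfl
    · simpa using (hw z).1
    · simpa using (hw (-z)).1
  · rcases hε with rfl | rfl <;> intro h
    · exact (hw z).2 (by simpa using h)
    · rcases (hw (-z)).2 (by simpa using h) with h' | h' <;> omega

open Classical in
/-- The multiplicities in the exceptional characters of the base family. -/
theorem coeff_B [Fintype (K.V →* ℂˣ)] (hUV : U ≤ K.V) {l : T.sp.S →* ℂˣ} (hU : U = T.sp.stab l)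
    (hfull : Full l) (hnc : ∀ j : Fin 3, ∀ w ∈ T.sp.W, T.sp.twist w (K.lam j) ≠ l)
    (e : U →* ℂˣ) (eta : K.V →* ℂˣ) :
    Cfsg.classInner (T.tau (K.B hUV l e)) (K.ex eta 0 : G → ℂ) =
      if Ext hUV e eta then -(K.eps eta : ℂ) else 0 := by
  have hlinv : U = T.sp.stab l⁻¹ := by rw [stab_inv]; exact hU
  have hcU : ∀ a b : U, a * b = b * a := by
    subst hU; exact fun a b => stab_comm hfull.ne_one a b
  have hnc' : ∀ j : Fin 3, ∀ w ∈ T.sp.W, T.sp.twist w (K.lam j) ≠ l⁻¹ := by
    intro j w hw h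
    have h' : T.sp.twist w (K.lam j)⁻¹ = l := by rw [twist_inv, h, hom_inv_inv]
    fin_cases j
    · refine K.lam0_not_full ?_
      obtain ⟨u, hu, hne⟩ := hfull.inv
      rw [← h] at hne
      refine ⟨T.sp.act w⁻¹ u, ?_, ?_⟩
      · rw [← Subgroup.orderOf_coe, ← hu, ← Subgroup.orderOf_coe u]
        simpa [Split.act] using MulEquiv.orderOf_eq (MulAut.conj w⁻¹) (u : ↥T.M)
      · simpa [Split.twist] using hne
    · exact hnc 2 w hw h'
    · refine hnc 1 w hw ?_
      have e2 : (K.lam 2)⁻¹ = K.lam 1 := hom_inv_inv K.mu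
      exact (congrArg (T.sp.twist w) e2.symm).trans h'
  -- the two coefficient functions
  obtain ⟨c, hc⟩ := tau_eq_expand (K.B_gen hUV hU.le e)
  obtain ⟨c', hc'⟩ := tau_eq_expand (K.B_gen hUV hlinv.le e)
  have hcl : ∀ {m} (hm : U ≤ T.sp.stab m), Cfsg.IsClassFunction ↥T.M (K.B hUV m e) := fun hm =>
    Char.isGeneralizedCharacter_isClassFunction (K.B_gen hUV hm e)
  set i := (Finset.univ.filter (Ext hUV e)).card with hi
  have hrel : ∀ {m} (hm : U ≤ T.sp.stab m)
      (_hm' : ∀ j : Fin 3, ∀ w ∈ T.sp.W, T.sp.twist w (K.lam j) ≠ m)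
      (d : Cfsg.IrrCharacter G → ℤ)
      (_hd : ∀ χ : Cfsg.IrrCharacter G, Cfsg.classInner (T.tau (K.B hUV m e)) (χ : G → ℂ) = d χ)
      (η : K.V →* ℂˣ) (j : Fin 3), j ≠ 0 →
      d (K.ex η j) = d (K.ex η 0) + K.eps η * if Ext hUV e η then 1 else 0 := by
    intro m hm hm' d hd η j hj
    have h := T.inner_tau (K.beta_class η j) (K.B_supp hUV hm e) (K.beta_supp η j)
    rw [K.inner_B_beta hUV hm e hm' η hj, K.tau_beta η hj, Char.classInner_smul_right,
      Char.classInner_sub_right, hd, hd, map_intCast] at h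
    have h' : K.eps η * (d (K.ex η 0) - d (K.ex η j)) = if Ext hUV e η then -1 else 0 := by
      split_ifs at h ⊢ <;> exact_mod_cast h
    rcases K.eps_spec η with he | he <;> simp only [he] at h' ⊢ <;> split_ifs at h' ⊢ <;> omega
  have hnorm : ∀ {m} (_hm : U = T.sp.stab m)
      (_hm' : ∀ j : Fin 3, ∀ w ∈ T.sp.W, T.sp.twist w (K.lam j) ≠ m)
      (d : Cfsg.IrrCharacter G → ℤ)
      (_hd : ∀ χ : Cfsg.IrrCharacter G, Cfsg.classInner (T.tau (K.B hUV m e)) (χ : G → ℂ) = d χ),
      ∑ χ, d χ * d χ = 1 + (i : ℤ) := by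
    intro m hm hm' d hd
    have h := T.inner_tau (hcl hm.le) (K.B_supp hUV hm.le e) (K.B_supp hUV hm.le e)
    rw [K.inner_B_B hUV hm.le e hm' hm.le hm', T.sp.inner_same m U e hm hcU e, if_pos rfl,
      Char.classInner_eq_sum_mul_conj (show Cfsg.IsClassFunction G (T.tau (K.B hUV m e)) from
        CharInd.indFun_isClassFunction T.M _)] at h
    simp only [hd, map_intCast] at h
    exact_mod_cast h
  have hcross : ∑ χ, c χ * c' χ = (i : ℤ) := by
    have h := T.inner_tau (hcl hlinv.le) (K.B_supp hUV hU.le e) (K.B_supp hUV hlinv.le e)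
    rw [K.inner_B_B hUV hU.le e hnc hlinv.le hnc',
      T.sp.inner_of_not_conj l U e hU.le e hlinv.le (fun w hw he => twist_ne_inv K hfull hw (by
        rw [twist_inv] at he
        rw [← hom_inv_inv (T.sp.twist w l), he])), zero_add,
      Char.classInner_eq_sum_mul_conj (show Cfsg.IsClassFunction G (T.tau (K.B hUV l e)) from
        CharInd.indFun_isClassFunction T.M _)] at h
    simp only [hc, hc', map_intCast] at h
    exact_mod_cast h
  set dl : (K.V →* ℂˣ) → ℤ := fun η => if Ext hUV e η then 1 else 0 with hdl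
  have hi' : (i : ℤ) = ∑ η, dl η := by
    rw [hdl, Finset.sum_boole, hi]
  -- decompose sums along the exceptional characters
  set X := Finset.univ.image (fun p : (K.V →* ℂˣ) × Fin 3 => K.ex p.1 p.2) with hX
  have hsum : ∀ f : Cfsg.IrrCharacter G → ℤ, ∑ χ, f χ =
      (∑ η, (f (K.ex η 0) + f (K.ex η 1) + f (K.ex η 2))) + ∑ χ ∈ Xᶜ, f χ := by
    intro f
    rw [← Finset.sum_add_sum_compl X, hX, Finset.sum_image (fun p _ q _ h => K.ex_inj h),
      Fintype.sum_prod_type]
    simp only [Fin.sum_univ_three]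
  -- the excess of each member
  have hex : ∀ {m} (hm : U = T.sp.stab m)
      (hm' : ∀ j : Fin 3, ∀ w ∈ T.sp.W, T.sp.twist w (K.lam j) ≠ m)
      (d : Cfsg.IrrCharacter G → ℤ)
      (hd : ∀ χ : Cfsg.IrrCharacter G, Cfsg.classInner (T.tau (K.B hUV m e)) (χ : G → ℂ) = d χ),
      (∀ η, dl η = 0 → d (K.ex η 0) = 0) ∧
      (∀ η, dl η = 1 → d (K.ex η 0) = -K.eps η ∨ d (K.ex η 0) = 0) ∧
      ((Finset.univ.filter fun η => dl η = 1 ∧ d (K.ex η 0) = 0).card ≤ 1) ∧
      (∀ η, dl η = 1 → d (K.ex η 0) = 0 → ∀ χ ∈ Xᶜ, d χ = 0) := by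
    intro m hm hm' d hd
    set g : (K.V →* ℂˣ) → ℤ := fun η => d (K.ex η 0) * d (K.ex η 0) +
      d (K.ex η 1) * d (K.ex η 1) + d (K.ex η 2) * d (K.ex η 2) - dl η with hg
    have hg0 : ∀ η, 0 ≤ g η ∧
        (g η ≤ 1 → dl η = 1 → d (K.ex η 0) = -K.eps η ∨ d (K.ex η 0) = 0) ∧
        (g η ≤ 1 → dl η = 0 → d (K.ex η 0) = 0) ∧
        (dl η = 1 → d (K.ex η 0) = 0 → g η = 1) := by
      intro η
      have r1 := hrel hm.le hm' d hd η 1 (by decide)
      have r2 := hrel hm.le hm' d hd η 2 (by decide)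
      by_cases hE' : Ext hUV e η
      · have hd1 : dl η = 1 := if_pos hE'
        rw [if_pos hE', mul_one] at r1 r2
        have hgv : g η = 3 * (d (K.ex η 0) * d (K.ex η 0)) + 4 * (K.eps η * d (K.ex η 0)) + 1 := by
          rcases K.eps_spec η with he | he <;> simp only [hg, hd1, r1, r2, he] <;> ring
        rw [hgv, hd1]
        obtain ⟨e0, e1, e2⟩ := excess (K.eps_spec η) (d (K.ex η 0))
        exact ⟨e0, fun h _ => e1 h, fun _ h => absurd h one_ne_zero, fun _ h => e2 h⟩
      · have hd0 : dl η = 0 := if_neg hE'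
        rw [if_neg hE', mul_zero, add_zero] at r1 r2
        have hgv : g η = 3 * (d (K.ex η 0) * d (K.ex η 0)) := by
          simp only [hg, hd0, r1, r2]; ring
        rw [hgv, hd0]
        have h0 := mul_self_nonneg (d (K.ex η 0))
        exact ⟨by linarith, fun _ h => absurd h zero_ne_one,
          fun h _ => mul_self_eq_zero.1 (by omega), fun h => absurd h zero_ne_one⟩
    have htot : (∑ η, g η) + ∑ χ ∈ Xᶜ, d χ * d χ = 1 := by
      have := hnorm hm hm' d hd
      rw [hsum, hi'] at this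
      simp only [hg, Finset.sum_sub_distrib]
      linarith
    have hrest : 0 ≤ ∑ χ ∈ Xᶜ, d χ * d χ := Finset.sum_nonneg fun χ _ => mul_self_nonneg _
    have hgle : ∀ η, g η ≤ 1 := fun η => by
      have := Finset.single_le_sum (f := g) (fun a _ => (hg0 a).1) (Finset.mem_univ η)
      linarith
    refine ⟨fun η h => (hg0 η).2.2.1 (hgle η) h, fun η h => (hg0 η).2.1 (hgle η) h, ?_, ?_⟩
    · have h1 : ((Finset.univ.filter fun η => dl η = 1 ∧ d (K.ex η 0) = 0).card : ℤ) ≤ ∑ η, g η := by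
        refine le_trans ?_ (Finset.sum_le_sum_of_subset_of_nonneg (Finset.subset_univ
          (Finset.univ.filter fun η => dl η = 1 ∧ d (K.ex η 0) = 0)) fun a _ _ => (hg0 a).1)
        rw [Finset.sum_congr rfl (g := fun _ => (1 : ℤ)) fun η hη =>
          (hg0 η).2.2.2 (Finset.mem_filter.1 hη).2.1 (Finset.mem_filter.1 hη).2.2]
        simp
      have : ((Finset.univ.filter fun η => dl η = 1 ∧ d (K.ex η 0) = 0).card : ℤ) ≤ 1 := by linarith
      exact_mod_cast this
    · intro η h h0 χ hχ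
      have h1 : 1 ≤ ∑ η, g η := by
        rw [← (hg0 η).2.2.2 h h0]
        exact Finset.single_le_sum (f := g) (fun a _ => (hg0 a).1) (Finset.mem_univ η)
      have hz : ∑ χ ∈ Xᶜ, d χ * d χ = 0 := by linarith
      exact mul_self_eq_zero.1
        ((Finset.sum_eq_zero_iff_of_nonneg fun χ _ => mul_self_nonneg _).1 hz χ hχ)
  obtain ⟨a0, a1, a2, a3⟩ := hex hU hnc c hc
  obtain ⟨b0, b1, b2, -⟩ := hex hlinv hnc' c' hc'
  rw [hc]
  by_cases hE : Ext hUV e eta
  · rw [if_pos hE]
    have hdeta : dl eta = 1 := by simp [hdl, hE]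
    rcases a1 eta hdeta with h | h
    · rw [h]; push_cast; rfl
    exfalso
    -- `c` is irregular at `eta`
    have hrest : ∑ χ ∈ Xᶜ, c χ * c' χ = 0 :=
      Finset.sum_eq_zero fun χ hχ => by rw [a3 eta hdeta h χ hχ, zero_mul]
    rw [hsum, hrest, add_zero, hi'] at hcross
    set g : (K.V →* ℂˣ) → ℤ := fun η => c (K.ex η 0) * c' (K.ex η 0) +
      c (K.ex η 1) * c' (K.ex η 1) + c (K.ex η 2) * c' (K.ex η 2) - dl η with hg
    have hgsum : ∑ η, g η = 0 := by
      simp only [hg, Finset.sum_sub_distrib]; linarith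
    have hval : ∀ η, g η = if dl η = 1 then
        (if c (K.ex η 0) = 0 then (if c' (K.ex η 0) = 0 then 1 else -1)
          else (if c' (K.ex η 0) = 0 then -1 else 0)) else 0 := by
      intro η
      have r1 := hrel hU.le hnc c hc η 1 (by decide)
      have r2 := hrel hU.le hnc c hc η 2 (by decide)
      have s1 := hrel hlinv.le hnc' c' hc' η 1 (by decide)
      have s2 := hrel hlinv.le hnc' c' hc' η 2 (by decide)
      have hdd : (if Ext hUV e η then (1 : ℤ) else 0) = dl η := rfl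
      rw [hdd] at r1 r2 s1 s2
      simp only [hg, r1, r2, s1, s2]
      by_cases h1 : dl η = 1
      · rcases a1 η h1 with ha | ha <;> rcases b1 η h1 with hb | hb <;>
          rcases K.eps_spec η with he | he <;> simp [ha, hb, he, h1]
      · have h0 : dl η = 0 := by
          simp only [hdl] at h1 ⊢
          split_ifs at h1 ⊢ <;> simp_all
        simp [a0 η h0, b0 η h0, h0]
    have huniq : ∀ η, dl η = 1 → c (K.ex η 0) = 0 → η = eta := fun η h1 h0 =>
      Finset.card_le_one.1 a2 η (by simp [h1, h0]) eta (by simp [hdeta, h])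
    rw [← Finset.add_sum_erase _ _ (Finset.mem_univ eta)] at hgsum
    by_cases hb : c' (K.ex eta 0) = 0
    · have hrest0 : ∀ η ∈ Finset.univ.erase eta, g η = 0 := by
        intro η hη
        rw [hval]
        split_ifs with h1 h2 h3 h4
        · exact absurd (huniq η h1 h2) (Finset.ne_of_mem_erase hη)
        · exact absurd (huniq η h1 h2) (Finset.ne_of_mem_erase hη)
        · exact absurd (Finset.card_le_one.1 b2 η (by simp [h1, h4]) eta (by simp [hdeta, hb]))
            (Finset.ne_of_mem_erase hη)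
        · rfl
        · rfl
      rw [Finset.sum_eq_zero hrest0, hval eta, if_pos hdeta, if_pos h, if_pos hb] at hgsum
      norm_num at hgsum
    · have hrest0 : ∀ η ∈ Finset.univ.erase eta, g η ≤ 0 := by
        intro η hη
        rw [hval]
        split_ifs with h1 h2 h3 h4
        · exact absurd (huniq η h1 h2) (Finset.ne_of_mem_erase hη)
        all_goals norm_num
      have := Finset.sum_nonpos hrest0
      rw [hval eta, if_pos hdeta, if_pos h, if_neg hb] at hgsum
      linarith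
  · rw [if_neg hE, a0 eta (by simp [hdl, hE])]
    simp

open Classical in
/-- The multiplicities of the linear characters nontrivial on an involution are constant. -/
theorem mult_eq [Fintype T.sp.S] (eta : K.V →* ℂˣ) {l : T.sp.S →* ℂˣ} (hfull : Full l) :
    mult (T := T) (K.ex eta 0 : G → ℂ) l =
      mult (T := T) (K.ex eta 0 : G → ℂ) (K.lam 0) - (K.eps eta : ℂ) := by
  haveI := finite_homs (X := K.V)
  letI : Fintype (K.V →* ℂˣ) := Fintype.ofFinite _
  set θ : G → ℂ := (K.ex eta 0 : G → ℂ)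
  have hθ : Cfsg.IsClassFunction G θ := Char.irr_isClassFunction (K.ex eta 0).2
  have hres : Cfsg.IsClassFunction ↥T.M (fun x : ↥T.M => θ x) := fun a b => hθ (a : G) (b : G)
  obtain ⟨u, hu, hfix⟩ := exists_fixed_inv hfull.ne_one
  obtain ⟨w, hw, hwt⟩ := trans_I hu K.ht
  rw [← mult_twist hθ w l]
  set m := T.sp.twist w l with hm
  have hmfull : Full m := hfull.twist
  have hmV : T.sp.stab m ≤ K.V := by
    intro x hx
    have hstab : w⁻¹ * x * w ∈ T.sp.stab l := by
      refine ⟨T.sp.W.mul_mem (T.sp.W.mul_mem (T.sp.W.inv_mem hw) hx.1) hw, ?_⟩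
      rw [T.sp.twist_mul, T.sp.twist_mul, ← hm, hx.2, hm, ← T.sp.twist_mul, inv_mul_cancel,
        T.sp.twist_one]
    have := K.conj_le_V hw hwt hstab.1 (hfix _ hstab)
    simpa [mul_assoc] using this
  by_cases hcase : ∃ j : Fin 3, ∃ v ∈ T.sp.W, T.sp.twist v (K.lam j) = m
  · obtain ⟨j, v, hv, hj⟩ := hcase
    have hj0 : j ≠ 0 := by
      rintro rfl
      refine K.lam0_not_full ?_
      have := (hj ▸ hmfull : Full (T.sp.twist v (K.lam 0))).twist (w := v⁻¹)
      rwa [← T.sp.twist_mul, inv_mul_cancel, T.sp.twist_one] at this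
    rw [← hj, mult_twist hθ]
    have h : ∑ e : K.V →* ℂˣ, Cfsg.classInner θ (T.tau (K.beta e j)) =
        mult (T := T) θ (K.lam 0) - mult (T := T) θ (K.lam j) := by
      simp only [TI.tau, CharInd.classInner_indFun_right T.M _ hθ, beta,
        Char.classInner_sub_right, Finset.sum_sub_distrib]
      rw [T.sp.sum_inner_zeta (K.lam 0) K.V (K.V_le_stab 0) K.V_comm hres,
        T.sp.sum_inner_zeta (K.lam j) K.V (K.V_le_stab j) K.V_comm hres]
      rfl
    have h' : ∑ e : K.V →* ℂˣ, Cfsg.classInner θ (T.tau (K.beta e j)) = (K.eps eta : ℂ) := by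
      rw [Finset.sum_eq_single eta]
      · rw [K.tau_beta eta hj0, Char.classInner_smul_right, Char.classInner_sub_right,
          Char.classInner_irr_self (K.ex eta 0).2, Char.classInner_irr_ne (K.ex eta 0).2 (K.ex eta j).2
          (fun hh => hj0 (K.ex_inj_one eta (Subtype.ext hh)).symm), map_intCast]
        ring
      · intro e _ he
        rw [K.tau_beta e hj0, Char.classInner_smul_right, Char.classInner_sub_right,
          Char.classInner_irr_ne (K.ex eta 0).2 (K.ex e 0).2
            (fun hh => he (congrArg Prod.fst (K.ex_inj (a₁ := (eta, 0)) (a₂ := (e, 0))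
              (Subtype.ext hh))).symm),
          Char.classInner_irr_ne (K.ex eta 0).2 (K.ex e j).2
            (fun hh => he (congrArg Prod.fst (K.ex_inj (a₁ := (eta, 0)) (a₂ := (e, j))
              (Subtype.ext hh))).symm)]
        simp
      · simp
    rw [← h', h]
    ring
  · push Not at hcase
    set U := T.sp.stab m with hU
    have hcU : ∀ a b : U, a * b = b * a := fun a b => stab_comm hmfull.ne_one a b
    haveI := finite_homs (X := U)
    letI : Fintype (U →* ℂˣ) := Fintype.ofFinite _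
    have h : ∑ e : U →* ℂˣ, Cfsg.classInner θ (T.tau (K.B hmV m e)) =
        mult (T := T) θ m - mult (T := T) θ (K.lam 0) := by
      simp only [TI.tau, CharInd.classInner_indFun_right T.M _ hθ, B,
        Char.classInner_sub_right, Char.classInner_sum_right, Finset.sum_sub_distrib]
      rw [T.sp.sum_inner_zeta m U le_rfl hcU hres]
      have hfib : ∑ e : U →* ℂˣ, ∑ η ∈ Finset.univ.filter (Ext hmV e),
          Cfsg.classInner (fun x : ↥T.M => θ x) (T.sp.zeta (K.lam 0) K.V η) =
          ∑ η : K.V →* ℂˣ, Cfsg.classInner (fun x : ↥T.M => θ x) (T.sp.zeta (K.lam 0) K.V η) :=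
        by
          simp only [Finset.sum_filter]
          rw [Finset.sum_comm]
          refine Finset.sum_congr rfl fun η _ => ?_
          rw [Finset.sum_eq_single (η.comp (inclusion hmV))]
          · exact if_pos rfl
          · exact fun e _ he => if_neg fun h => he h.symm
          · exact fun h => absurd (Finset.mem_univ _) h
      rw [hfib, T.sp.sum_inner_zeta (K.lam 0) K.V (K.V_le_stab 0) K.V_comm hres]
      rfl
    have h' : ∑ e : U →* ℂˣ, Cfsg.classInner θ (T.tau (K.B hmV m e)) = -(K.eps eta : ℂ) := by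
      have hval : ∀ e : U →* ℂˣ, Cfsg.classInner θ (T.tau (K.B hmV m e)) =
          if Ext hmV e eta then -(K.eps eta : ℂ) else 0 := fun e => by
        rw [← Char.classInner_conj, K.coeff_B hmV hU hmfull (fun j v hv => hcase j v hv) e eta]
        split_ifs <;> simp
      rw [Finset.sum_congr rfl fun e _ => hval e, Finset.sum_eq_single (eta.comp (inclusion hmV))]
      · exact if_pos rfl
      · exact fun e _ he => if_neg fun h => he h.symm
      · exact fun h => absurd (Finset.mem_univ _) h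
    linear_combination h' - h

end Cfsg.Agent.AGHall.Cfg
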