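import Cfsg.Agent.S0205
import Cfsg.Agent.S0089
import Cfsg.Agent.S0076
import Cfsg.Agent.Invol.BaerSuzuki
import Cfsg.Agent.FGS75.OddReal

/-!
Tools for groups all of whose Sylow subgroups are abelian.
-/

set_option autoImplicit false

open Subgroup
open scoped commutatorElement

namespace Cfsg.Agent.AGHall

variable {G : Type*} [Group G]

/-- Every subgroup of prime power order is abelian. -/
def AbSylows (G : Type*) [Group G] : Prop :=
  ∀ p : ℕ, p.Prime → ∀ Q : Subgroup G, IsPGroup p Q → ∀ x ∈ Q, ∀ y ∈ Q, x * y = y * x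

theorem abSylows_of_sylow (h : ∀ (p : ℕ) [Fact p.Prime] (P : Sylow p G),
    IsMulCommutative (P : Subgroup G)) : AbSylows G := fun p hp Q hQ x hx y hy => by
  haveI := Fact.mk hp
  obtain ⟨P, hP⟩ := hQ.exists_le_sylow
  exact congrArg Subtype.val ((h p P).is_comm.comm ⟨x, hP hx⟩ ⟨y, hP hy⟩)

theorem AbSylows.sylow (h : AbSylows G) {p : ℕ} (hp : p.Prime) (P : Sylow p G) :
    IsMulCommutative (P : Subgroup G) :=
  ⟨⟨fun x y => Subtype.ext (h p hp P P.isPGroup' x x.2 y y.2)⟩⟩

theorem AbSylows.subgroup (h : AbSylows G) (H : Subgroup G) : AbSylows H :=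
  fun p hp Q hQ x hx y hy => Subtype.ext
    (h p hp (Q.map H.subtype) (hQ.map H.subtype) x ⟨x, hx, rfl⟩ y ⟨y, hy, rfl⟩)

variable [Finite G]

theorem AbSylows.quotient (h : AbSylows G) (N : Subgroup G) [N.Normal] : AbSylows (G ⧸ N) := by
  intro p hp Q hQ x hx y hy
  haveI := Fact.mk hp
  obtain ⟨R, hR⟩ := hQ.exists_le_sylow
  obtain ⟨P⟩ : Nonempty (Sylow p G) := inferInstance
  obtain ⟨g, hg⟩ := MulAction.exists_smul_eq (G ⧸ N)
    (P.mapSurjective (QuotientGroup.mk'_surjective N)) R
  obtain ⟨g, rfl⟩ := QuotientGroup.mk'_surjective N g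
  have key : ∀ z ∈ Q, ∃ u ∈ (P : Subgroup G), QuotientGroup.mk' N (g * u * g⁻¹) = z := by
    intro z hz
    have := hR hz
    rw [← hg, Sylow.coe_subgroup_smul] at this
    obtain ⟨w, ⟨u, hu, rfl⟩, rfl⟩ := this
    exact ⟨u, hu, by simp⟩
  obtain ⟨u, hu, rfl⟩ := key x hx
  obtain ⟨v, hv, rfl⟩ := key y hy
  rw [← map_mul, ← map_mul]
  congr 1
  have := h p hp P P.isPGroup' u hu v hv
  calc g * u * g⁻¹ * (g * v * g⁻¹) = g * (u * v) * g⁻¹ := by group
    _ = g * (v * u) * g⁻¹ := by rw [this]
    _ = g * v * g⁻¹ * (g * u * g⁻¹) := by group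

theorem AbSylows.inf_center (h : AbSylows G) : commutator G ⊓ center G = ⊥ :=
  S0089.result fun _ hp P => h.sylow hp P

theorem AbSylows.comm_of_nilpotent (h : AbSylows G) [Group.IsNilpotent G] (x y : G) :
    x * y = y * x := by
  by_contra hxy
  set L := fun n => (⊤ : Subgroup G).lowerCentralSeries n with hL
  obtain ⟨n, hn⟩ := Subgroup.nilpotent_iff_lowerCentralSeries.1 (inferInstance : Group.IsNilpotent G)
  have key : ∀ m, L (m + 1) = ⊥ → L 1 = ⊥ := by
    intro m
    induction m with
    | zero => exact id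
    | succ m ih =>
      intro hm
      apply ih
      rw [eq_bot_iff, ← h.inf_center]
      refine le_inf ?_ fun z hz => mem_center_iff.2 fun g => ?_
      · rw [← Subgroup.top_lowerCentralSeries_one]
        exact Subgroup.lowerCentralSeries_antitone _ (by omega : 1 ≤ m + 1)
      · have hzg : ⁅z, g⁆ ∈ (⊤ : Subgroup G).lowerCentralSeries (m + 2) := by
          rw [Subgroup.lowerCentralSeries_succ]
          exact Subgroup.commutator_mem_commutator hz (mem_top g)
        rw [show (⊤ : Subgroup G).lowerCentralSeries (m + 2) = ⊥ from hm] at hzg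
        exact (commutatorElement_eq_one_iff_mul_comm.1 (mem_bot.1 hzg)).symm
  have h1 : L 1 = ⊥ := key n (eq_bot_iff.2 ((Subgroup.lowerCentralSeries_antitone _
    (Nat.le_succ n)).trans hn.le))
  rw [hL] at h1
  simp only [Subgroup.top_lowerCentralSeries_one] at h1
  exact hxy (commutatorElement_eq_one_iff_mul_comm.1 (by
    have := Subgroup.commutator_mem_commutator (mem_top x) (mem_top y)
    rw [← _root_.commutator_def, h1] at this
    exact mem_bot.1 this))

/-- A solvable quotient of a perfect group is trivial. -/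
theorem eq_top_of_solvable_quotient (hperf : commutator G = ⊤) (N : Subgroup G) [N.Normal]
    (hsol : Group.IsSolvable (G ⧸ N)) : N = ⊤ := by
  by_contra hN
  haveI : Nontrivial (G ⧸ N) := (QuotientGroup.nontrivial_iff).2 hN
  have hlt := Group.IsSolvable.commutator_lt_top_of_nontrivial (G := G ⧸ N)
  refine hlt.ne ?_
  have : (commutator G).map (QuotientGroup.mk' N) = commutator (G ⧸ N) := by
    rw [commutator_def, commutator_def, Subgroup.map_commutator,
      Subgroup.map_top_of_surjective _ (QuotientGroup.mk'_surjective N)]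
  rw [← this, hperf, Subgroup.map_top_of_surjective _ (QuotientGroup.mk'_surjective N)]

/-- A nontrivial perfect group with abelian Sylow subgroups has an inverted element of odd order. -/
theorem AbSylows.exists_real (h : AbSylows G) (hperf : commutator G = ⊤) [Nontrivial G] :
    ∃ t y : G, orderOf t = 2 ∧ y ≠ 1 ∧ Odd (orderOf y) ∧ t * y * t⁻¹ = y⁻¹ := by
  classical
  have hZ : center G = ⊥ := by
    rw [← h.inf_center, hperf, top_inf_eq]
  have h2 : 2 ∣ Nat.card G := by
    by_contra hodd
    haveI := S0205.result (G := G) (Nat.not_even_iff_odd.1 fun he => hodd he.two_dvd)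
    exact (Group.IsSolvable.commutator_lt_top_of_nontrivial (G := G)).ne hperf
  obtain ⟨t, ht⟩ := exists_prime_orderOf_dvd_card' 2 h2
  refine ⟨t, ?_⟩
  obtain ⟨y, hy1, hyo, hy⟩ := Invol.exists_inverted_odd t ht (fun N hN hNp htN => by
    haveI := hN
    haveI : Fact (Nat.Prime 2) := ⟨Nat.prime_two⟩
    obtain ⟨P, hP⟩ := hNp.exists_le_sylow
    have hPC : (P : Subgroup G) ≤ centralizer (N : Set G) := fun x hx =>
      mem_centralizer_iff.2 fun z hz => (h 2 Nat.prime_two P P.isPGroup' x hx z (hP hz)).symm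
    haveI : (centralizer (N : Set G)).Normal := inferInstance
    have hodd : Odd (Nat.card (G ⧸ centralizer (N : Set G))) := by
      rw [← Subgroup.index_eq_card, ← Nat.not_even_iff_odd, even_iff_two_dvd]
      exact fun hd => P.not_dvd_index (hd.trans (index_dvd_of_le hPC))
    have := eq_top_of_solvable_quotient hperf _ (S0205.result hodd)
    have htc : t ∈ center G := mem_center_iff.2 fun g =>
      ((mem_centralizer_iff.1 (this ▸ mem_top g : g ∈ centralizer (N : Set G))) t htN).symm
    rw [hZ, mem_bot] at htc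
    rw [htc, orderOf_one] at ht
    omega)
  exact ⟨y, ht, hy1, hyo, hy⟩

/-- In a group of odd order only the identity is conjugate to its inverse. -/
theorem eq_one_of_conj_inv {C : Subgroup G} (hC : Odd (Nat.card C)) {c y : G} (hc : c ∈ C)
    (hy : y ∈ C) (h : c * y * c⁻¹ = y⁻¹) : y = 1 := by
  have hco : Odd (orderOf c) := hC.of_dvd_nat (Subgroup.orderOf_dvd_natCard C hc)
  have hyo : Odd (orderOf y) := hC.of_dvd_nat (Subgroup.orderOf_dvd_natCard C hy)
  refine FGS75.eq_one_of_inv_eq_self_of_odd ?_ hyo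
  have h2 : Commute (c ^ 2) y := by
    show c ^ 2 * y = y * c ^ 2
    have : c * (c * y * c⁻¹) * c⁻¹ = y := by
      rw [h]
      calc c * y⁻¹ * c⁻¹ = (c * y * c⁻¹)⁻¹ := by group
        _ = y := by rw [h, inv_inv]
    calc c ^ 2 * y = c * (c * y * c⁻¹) * c⁻¹ * c ^ 2 := by rw [sq]; group
      _ = y * c ^ 2 := by rw [this]
  obtain ⟨k, hk⟩ := hco
  have hcc : c = (c ^ 2) ^ (k + 1) := by
    rw [← pow_mul, show 2 * (k + 1) = orderOf c + 1 by omega, pow_succ, pow_orderOf_eq_one, one_mul]
  have hcy : Commute c y := hcc ▸ h2.pow_left (k + 1)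
  rw [← h, hcy.eq, mul_inv_cancel_right]

/-- Fusion in an abelian Sylow subgroup is controlled by its normalizer. -/
theorem fusion_abelian (h : AbSylows G) {p : ℕ} [Fact p.Prime] (P : Sylow p G) {x y g : G}
    (hx : x ∈ (P : Subgroup G)) (hy : y ∈ (P : Subgroup G)) (hg : g * x * g⁻¹ = y) :
    ∃ n ∈ normalizer (P : Set G), n * x * n⁻¹ = y := by
  have hp : p.Prime := Fact.out
  obtain ⟨n, hn, hn'⟩ := S0076.result P {x} {y} (Set.singleton_subset_iff.2 hx) (Set.singleton_subset_iff.2 hy)
    (fun u hu => by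
      rw [Set.image_singleton, h p hp P P.isPGroup' u hu x hx, mul_inv_cancel_right])
    (fun u hu => by
      rw [Set.image_singleton, h p hp P P.isPGroup' u hu y hy, mul_inv_cancel_right])
    g (by rw [Set.image_singleton, hg])
  refine ⟨n, hn, ?_⟩
  rwa [Set.image_singleton, Set.singleton_eq_singleton_iff] at hn'

end Cfsg.Agent.AGHall
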